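/-
Helper library (helper52): Bender–Glauberman Section 14, basic consequences of the rows S1430, S1431
(`K` a nontrivial Hall `κ(M)`-subgroup, `K* = M_σ ∩ C(K)`).
-/
import Cfsg.Agent.S1430
import Cfsg.Agent.S1431
import Cfsg.Agent.Lib.Helper34.BG16e
import Cfsg.Agent.Lib.Helper62.HallCoprime
import Cfsg.Agent.Lib.Helper9.BG12g

set_option autoImplicit false
set_option linter.unusedSimpArgs false
set_option linter.unusedVariables false
set_option linter.style.haveILetI false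
set_option linter.unusedSectionVars false

namespace Cfsg.Agent.Lib.Helper52.BG14

open Subgroup Cfsg
open Cfsg.Agent.Lib
open Cfsg.Agent.Lib.Helper24 Cfsg.Agent.Lib.Helper34 Cfsg.Agent.Lib.Helper31.BG11
open Cfsg.Agent.Lib.Helper34.BG13 Cfsg.Agent.Lib.Helper34.BG16
open scoped commutatorElement Pointwise

universe u

variable {G : Type u} [Group G]

/-- `K* = M_σ ∩ C_G(K)`. -/
abbrev Kst (M K : Subgroup G) : Subgroup G := sigmaCore M ⊓ centralizer (K : Set G)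

/-- Conjugates of Hall subgroups. -/
theorem isPiHallOf_cj {π : Set ℕ} {H M : Subgroup G} (h : IsPiHallOf π H M) (g : G) :
    IsPiHallOf π (cj g H) (cj g M) := by
  refine ⟨cj_mono g h.1, ?_, ?_⟩
  · intro p hp hd
    rw [Subgroup.card_map_of_injective (MulAut.conj g).injective] at hd
    exact h.2.1 p hp hd
  · intro p hp hπ hd
    apply h.2.2 p hp hπ
    have : (cj g H).relIndex (cj g M) = H.relIndex M := by
      have := Subgroup.relIndex_map_map_of_injective H M (f := (MulAut.conj g).toMonoidHom)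
        (MulAut.conj g).injective
      exact this
    rwa [this] at hd

theorem cj_eq_of_mem {M : Subgroup G} {g : G} (hg : g ∈ M) : cj g M = M := by
  ext x
  rw [mem_map_conj]
  constructor
  · intro h
    have : x = g * (g⁻¹ * x * g) * g⁻¹ := by group
    rw [this]
    exact mul_mem (mul_mem hg h) (inv_mem hg)
  · intro h
    exact mul_mem (mul_mem (inv_mem hg) h) hg

/-- In a solvable subgroup every `π`-subgroup lies in a Hall `π`-subgroup. -/
theorem exists_hall_ge [Finite G] {π : Set ℕ} {M Y : Subgroup G} (hM : Group.IsSolvable M)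
    (hYM : Y ≤ M) (hY : ∀ p : ℕ, p.Prime → p ∣ Nat.card Y → p ∈ π) :
    ∃ K, IsPiHallOf π K M ∧ Y ≤ K := by
  obtain ⟨D, hD⟩ := Helper62.exists_isPiHallOf π M hM
  have hmn : Nat.card M = Nat.card D * D.relIndex M := (Helper23.card_mul_relIndex hD.1).symm
  have hcop : (Nat.card D).Coprime (D.relIndex M) := Helper62.IsPiHallOf.coprime hD
  have hYc : (Nat.card Y).Coprime (D.relIndex M) :=
    Nat.coprime_of_dvd fun k hk h1 h2 => hD.2.2 k hk (hY k hk h1) h2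
  obtain ⟨l, hl, hle⟩ := Helper9.BG12.hall_conj_into hM hD.1 hYM hmn hcop dvd_rfl hYc
  refine ⟨cj l⁻¹ D, ?_, ?_⟩
  · have := isPiHallOf_cj hD l⁻¹
    rwa [cj_eq_of_mem (inv_mem hl)] at this
  · have := cj_mono l⁻¹ hle
    rwa [cj_inv_cj] at this

/-! ### The conjuncts of S1430 and S1431 -/

section

variable [Finite G] {M K : Subgroup G}

theorem P1 (hG : IsMinSimpleOddOrder G) (hM : IsCoatom M) (hK : IsPiHallOf (kappa M) K M)
    (hK1 : K ≠ ⊥) {k : G} (hk : k ∈ K) (hk1 : k ≠ 1) :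
    sigmaCore M ⊓ centralizer ({k} : Set G) = Kst M K :=
  (Cfsg.Agent.S1430.result hG M hM K hK hK1).1 k hk hk1

theorem P2 (hG : IsMinSimpleOddOrder G) (hM : IsCoatom M) (hK : IsPiHallOf (kappa M) K M)
    (hK1 : K ≠ ⊥) :
    ∃ U : Subgroup G, IsMulCommutative U ∧
      IsPiHallOf {q | q.Prime ∧ q ∉ kappa M ∧ q ∉ sigma M} U M ∧
      K ≤ normalizer (U : Set G) ∧ ∀ k ∈ K, k ≠ 1 → U ⊓ centralizer ({k} : Set G) = ⊥ :=
  (Cfsg.Agent.S1430.result hG M hM K hK hK1).2.1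

theorem P3a (hG : IsMinSimpleOddOrder G) (hM : IsCoatom M) (hK : IsPiHallOf (kappa M) K M)
    (hK1 : K ≠ ⊥) {X : Subgroup G} (hXK : X ≤ K) (hX : (Nat.card X).Prime) :
    M ⊓ normalizer (X : Set G) = K ⊔ Kst M K :=
  ((Cfsg.Agent.S1430.result hG M hM K hK hK1).2.2 X hXK hX).1

theorem exists_prime_le {K : Subgroup G} (hK1 : K ≠ ⊥) :
    ∃ X : Subgroup G, X ≤ K ∧ (Nat.card X).Prime := by
  have hcard : Nat.card K ≠ 1 := fun h => hK1 ((Subgroup.card_eq_one).1 h)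
  obtain ⟨p, hp, hpd⟩ := Nat.exists_prime_and_dvd hcard
  haveI : Fact p.Prime := ⟨hp⟩
  obtain ⟨x₀, hx₀⟩ := exists_prime_orderOf_dvd_card' (G := K) p hpd
  refine ⟨zpowers (x₀ : G), zpowers_le.2 x₀.2, ?_⟩
  rw [Nat.card_zpowers, Subgroup.orderOf_coe, hx₀]
  exact hp

theorem P3b (hG : IsMinSimpleOddOrder G) (hM : IsCoatom M) (hK : IsPiHallOf (kappa M) K M)
    (hK1 : K ≠ ⊥) : M ⊓ normalizer (K : Set G) = K ⊔ Kst M K := by
  obtain ⟨X, hXK, hX⟩ := exists_prime_le hK1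
  exact ((Cfsg.Agent.S1430.result hG M hM K hK hK1).2.2 X hXK hX).2.1

theorem P3c (hG : IsMinSimpleOddOrder G) (hM : IsCoatom M) (hK : IsPiHallOf (kappa M) K M)
    (hK1 : K ≠ ⊥) {X : Subgroup G} (hXK : X ≤ K) (hX : (Nat.card X).Prime) {L : Subgroup G}
    (hL : IsCoatom L) (hNL : normalizer (X : Set G) ≤ L) : X ≤ sigmaCore L :=
  ((Cfsg.Agent.S1430.result hG M hM K hK hK1).2.2 X hXK hX).2.2 L hL hNL

theorem P4 (hG : IsMinSimpleOddOrder G) (hM : IsCoatom M) (hK : IsPiHallOf (kappa M) K M)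
    (hK1 : K ≠ ⊥) {g : G} (hg : g ∉ M) : Kst M K ⊓ cj g M = ⊥ :=
  (Cfsg.Agent.S1431.result hG M hM K hK hK1).1 g hg

theorem P5 (hG : IsMinSimpleOddOrder G) (hM : IsCoatom M) (hK : IsPiHallOf (kappa M) K M)
    (hK1 : K ≠ ⊥) {g : G} (hg : g ∈ M) (hgZ : g ∉ K ⊔ Kst M K) : K ⊓ cj g K = ⊥ :=
  (Cfsg.Agent.S1431.result hG M hM K hK hK1).2.1 g hg hgZ

theorem P6 (hG : IsMinSimpleOddOrder G) (hM : IsCoatom M) (hK : IsPiHallOf (kappa M) K M)
    (hK1 : K ≠ ⊥) {p : ℕ} (hp : p.Prime) (hd : p ∣ Nat.card (Kst M K))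
    (S : Sylow p ↥(sigmaCore M)) :
    InUniqueMaximal ((S : Subgroup ↥(sigmaCore M)).map (sigmaCore M).subtype) ∧
      (S : Subgroup ↥(sigmaCore M)).map (sigmaCore M).subtype ≤ M ∧
      ¬ (S : Subgroup ↥(sigmaCore M)).map (sigmaCore M).subtype ≤ Kst M K :=
  (Cfsg.Agent.S1431.result hG M hM K hK hK1).2.2.1 p hp hd S

theorem P7 (hG : IsMinSimpleOddOrder G) (hM : IsCoatom M) (hK : IsPiHallOf (kappa M) K M)
    (hK1 : K ≠ ⊥) {Y : Subgroup G} (hY : ∀ p : ℕ, p.Prime → p ∣ Nat.card Y → p ∈ sigma M)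
    (hYK : Y ⊓ Kst M K ≠ ⊥) : Y ≤ sigmaCore M :=
  (Cfsg.Agent.S1431.result hG M hM K hK hK1).2.2.2 Y hY hYK

/-- If `a ≠ 1` lies in `K*` and `g a g⁻¹ ∈ M`, then `g ∈ M`. -/
theorem mem_of_conj_mem (hG : IsMinSimpleOddOrder G) (hM : IsCoatom M)
    (hK : IsPiHallOf (kappa M) K M) (hK1 : K ≠ ⊥) {a g : G} (ha : a ∈ Kst M K) (ha1 : a ≠ 1)
    (hg : g * a * g⁻¹ ∈ M) : g ∈ M := by
  by_contra hgM
  have hgM' : g⁻¹ ∉ M := fun h => hgM (by simpa using inv_mem h)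
  have h := P4 hG hM hK hK1 hgM'
  have h1 : a ∈ Kst M K ⊓ cj g⁻¹ M := by
    refine mem_inf.2 ⟨ha, ?_⟩
    rw [mem_map_conj]
    simpa using hg
  rw [h, mem_bot] at h1
  exact ha1 h1

theorem Q1 (hG : IsMinSimpleOddOrder G) (hM : IsCoatom M) (hK : IsPiHallOf (kappa M) K M)
    (hK1 : K ≠ ⊥) {Y : Subgroup G} (hY : Y ≤ Kst M K) (hY1 : Y ≠ ⊥) :
    normalizer (Y : Set G) ≤ M := by
  intro g hg
  obtain ⟨a, ha, ha1⟩ : ∃ a ∈ Y, a ≠ 1 := by
    by_contra hcon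
    push Not at hcon
    exact hY1 ((eq_bot_iff_forall _).mpr hcon)
  refine mem_of_conj_mem hG hM hK hK1 (hY ha) ha1 ?_
  exact sc_le M (mem_inf.1 (hY (le_normalizer_iff.mp le_rfl g hg a ha))).1

theorem cent_le (hG : IsMinSimpleOddOrder G) (hM : IsCoatom M) (hK : IsPiHallOf (kappa M) K M)
    (hK1 : K ≠ ⊥) {a : G} (ha : a ∈ Kst M K) (ha1 : a ≠ 1) :
    centralizer ({a} : Set G) ≤ M := by
  intro g hg
  refine mem_of_conj_mem hG hM hK hK1 ha ha1 ?_
  rw [mem_centralizer_singleton_iff] at hg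
  have : g * a * g⁻¹ = a := by rw [hg]; group
  rw [this]
  exact sc_le M (mem_inf.1 ha).1

theorem kappa_not_sigma {p : ℕ} (hp : p ∈ kappa M) : p ∉ sigma M := hp.2.2.1

theorem coprime_K_sc (hK : IsPiHallOf (kappa M) K M) :
    (Nat.card K).Coprime (Nat.card (sigmaCore M)) :=
  Nat.coprime_of_dvd fun k hk h1 h2 => kappa_not_sigma (hK.2.1 k hk h1) (sc_primes M hk h2)

theorem coprime_K_Kst (hK : IsPiHallOf (kappa M) K M) :
    (Nat.card K).Coprime (Nat.card (Kst M K)) :=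
  (coprime_K_sc hK).coprime_dvd_right (card_dvd_of_le inf_le_left)

theorem comm_K_Kst {k a : G} (hk : k ∈ K) (ha : a ∈ Kst M K) : k * a = a * k :=
  mem_centralizer_iff.1 (mem_inf.1 ha).2 k hk

theorem mem_Z_iff {z : G} : z ∈ K ⊔ Kst M K ↔ ∃ k ∈ K, ∃ a ∈ Kst M K, z = k * a := by
  have hn : K ≤ normalizer ((Kst M K : Subgroup G) : Set G) := by
    rw [le_normalizer_iff]
    intro k hk a ha
    rw [comm_K_Kst hk ha]
    simpa using ha
  constructor
  · intro hz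
    rw [← SetLike.mem_coe, Subgroup.coe_mul_of_left_le_normalizer_right _ _ hn] at hz
    obtain ⟨k, hk, a, ha, rfl⟩ := Set.mem_mul.1 hz
    exact ⟨k, hk, a, ha, rfl⟩
  · rintro ⟨k, hk, a, ha, rfl⟩
    exact mul_mem (mem_sup_left hk) (mem_sup_right ha)

end

end Cfsg.Agent.Lib.Helper52.BG14
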