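import Cfsg.Agent.Lib.Helper52.FrobCyc
import Cfsg.Agent.Lib.Helper47.Frat
import Cfsg.Agent.Lib.Helper91.FrattiniMore
import Cfsg.Agent.S0022
import Cfsg.Agent.S0029
import Cfsg.Agent.S0033

/-!
# S1446 (BG 3.8) from the fixed point formula S1545
-/

set_option autoImplicit false
set_option linter.unusedSectionVars false
set_option linter.style.haveILetI false

namespace Cfsg.Agent.Lib.Helper52.FrobCyc

open Subgroup
open scoped commutatorElement
open Cfsg.Agent.Lib.Helper24 (FrobFormula)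

variable {X : Type*} [Group X] [Finite X]

/-- elements of `V` killed by `q` -/
def omegaQ (V : Subgroup X) (hVc : ∀ a ∈ V, ∀ b ∈ V, a * b = b * a) (q : ℕ) : Subgroup X where
  carrier := {u | u ∈ V ∧ u ^ q = 1}
  one_mem' := ⟨one_mem _, one_pow _⟩
  mul_mem' := by
    rintro a b ⟨ha, ha'⟩ ⟨hb, hb'⟩
    refine ⟨mul_mem ha hb, ?_⟩
    have : Commute a b := hVc a ha b hb
    rw [this.mul_pow, ha', hb', one_mul]
  inv_mem' := by
    rintro a ⟨ha, ha'⟩
    exact ⟨inv_mem ha, by rw [inv_pow, ha', inv_one]⟩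

/-- `V` abelian with `C_V(R)` cyclic -/
theorem core2 (hF : FrobFormula X) (K R V : Subgroup X) {p : ℕ} (hp : p.Prime)
    (hR : Nat.card R = p) (hRK : R ≤ normalizer (K : Set X))
    (hfpf : ∀ r ∈ R, r ≠ 1 → ∀ k ∈ K, r * k = k * r → k = 1)
    (hKnil : Group.IsNilpotent K) (hVc : IsMulCommutative V)
    (hKV : K ≤ normalizer (V : Set X)) (hRV : R ≤ normalizer (V : Set X))
    (hcop : (Nat.card V).Coprime (Nat.card ↥(K ⊔ R)))
    (hcyc : IsCyclic ↥(V ⊓ centralizer (R : Set X))) :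
    ⁅K, K⁆ ≤ centralizer (V : Set X) := by
  have hKK : ⁅K, K⁆ ≤ K := commutator_le_of_normalizes le_normalizer
  have hVc' : ∀ a ∈ V, ∀ b ∈ V, a * b = b * a := fun a ha b hb =>
    congrArg Subtype.val (hVc.is_comm.comm ⟨a, ha⟩ ⟨b, hb⟩)
  apply Cfsg.Agent.S0056.result ⁅K, K⁆ V (hKK.trans hKV)
    (hcop.coprime_dvd_right (card_dvd_of_le (hKK.trans le_sup_left))).symm
  intro v hv hq a ha
  set q := orderOf v with hqdef
  set W := omegaQ V hVc' q with hW
  have hWV : W ≤ V := fun u hu => hu.1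
  have hconj : ∀ A : Subgroup X, A ≤ normalizer (V : Set X) → A ≤ normalizer (W : Set X) := by
    intro A hA
    apply le_normalizer_of_conj_mem
    intro g hg u hu
    exact ⟨(mem_normalizer_iff.1 (hA hg) u).1 hu.1, by rw [conj_pow, hu.2]; group⟩
  have hT : Nat.card ↥(W ⊓ centralizer (R : Set X)) ∣ q := by
    have h1 : IsCyclic ↥(W ⊓ centralizer (R : Set X)) :=
      isCyclic_of_le (inf_le_inf_right _ hWV)
    rw [← IsCyclic.exponent_eq_card]
    apply Monoid.exponent_dvd_of_forall_pow_eq_one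
    intro u
    exact Subtype.ext (by simpa using u.2.1.2)
  have h1 := core1 hF K R W hp hR hRK hfpf hKnil
    ⟨⟨fun a b => Subtype.ext (hVc' a (hWV a.2) b (hWV b.2))⟩⟩ (hconj K hKV) (hconj R hRV)
    (hcop.coprime_dvd_left (card_dvd_of_le hWV)) hq hT
  have hvW : v ∈ W := ⟨hv, pow_orderOf_eq_one v⟩
  exact (mem_centralizer_iff.1 (h1 ha) v hvW).symm

/-- Thompson: a group with a fixed point free automorphism of prime order is nilpotent
(internal version) -/
theorem nilpotent_of_fpf (K : Subgroup X) {x : X} {p : ℕ} (hp : p.Prime) (hx : orderOf x = p)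
    (hxK : x ∈ normalizer (K : Set X)) (hfpf : ∀ k ∈ K, x * k = k * x → k = 1) :
    Group.IsNilpotent K := by
  by_cases hK1 : K = ⊥
  · have : Subsingleton K := by rw [hK1]; infer_instance
    infer_instance
  let φ : K ≃* K :=
    { toFun := fun q => ⟨x * q * x⁻¹, (mem_normalizer_iff.1 hxK q).1 q.2⟩
      invFun := fun q => ⟨x⁻¹ * q * x, by
        have := (mem_normalizer_iff.1 (inv_mem hxK) q).1 q.2
        simpa using this⟩
      left_inv := fun q => Subtype.ext (by simp [mul_assoc])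
      right_inv := fun q => Subtype.ext (by simp [mul_assoc])
      map_mul' := fun q r => Subtype.ext (by simp [mul_assoc]) }
  have hφ : ∀ q : K, ((φ q : K) : X) = x * q * x⁻¹ := fun q => rfl
  have hφpow : ∀ (n : ℕ) (q : K), (((φ ^ n) q : K) : X) = x ^ n * q * (x ^ n)⁻¹ := by
    intro n
    induction n with
    | zero => intro q; simp
    | succ n ih =>
      intro q
      rw [pow_succ', MulAut.mul_apply, hφ, ih, pow_succ']
      simp [mul_assoc]
  have hfix : MonoidHom.FixedPointFree (φ : K →* K) := by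
    intro q hq
    have h1 : x * (q : X) * x⁻¹ = q := congrArg Subtype.val hq
    exact Subtype.ext (hfpf q q.2 (mul_inv_eq_iff_eq_mul.1 h1))
  have hφ1 : φ ≠ 1 := by
    intro h
    obtain ⟨s, hs1⟩ := Subgroup.ne_bot_iff_exists_ne_one.1 hK1
    exact hs1 (hfix s (by
      change φ s = s
      rw [h]; rfl))
  have hφp : φ ^ p = 1 := by
    ext q
    rw [hφpow, ← hx, pow_orderOf_eq_one]
    simp
  have : Fact p.Prime := ⟨hp⟩
  exact Cfsg.Agent.S0033.result φ hfix p hp (orderOf_eq_prime hφp hφ1)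

section Bar

variable (N : Subgroup X)

/-- the section `N_X(N) / N` -/
abbrev Qt : Type _ := ↥(normalizer (N : Set X)) ⧸ N.subgroupOf (normalizer (N : Set X))

/-- image of a subgroup in `N_X(N) / N` -/
def bar (H : Subgroup X) : Subgroup (Qt N) :=
  (H.subgroupOf (normalizer (N : Set X))).map (QuotientGroup.mk' _)

/-- image of an element -/
def pr (x : X) (hx : x ∈ normalizer (N : Set X)) : Qt N := QuotientGroup.mk' _ ⟨x, hx⟩

variable {N}

theorem mem_bar {H : Subgroup X} {y : Qt N} :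
    y ∈ bar N H ↔ ∃ (x : X) (hx : x ∈ normalizer (N : Set X)), x ∈ H ∧ pr N x hx = y := by
  constructor
  · rintro ⟨⟨x, hx⟩, hxH, rfl⟩
    exact ⟨x, hx, hxH, rfl⟩
  · rintro ⟨x, hx, hxH, rfl⟩
    exact ⟨⟨x, hx⟩, hxH, rfl⟩

theorem pr_mem_bar {H : Subgroup X} {x : X} (hx : x ∈ normalizer (N : Set X)) (hxH : x ∈ H) :
    pr N x hx ∈ bar N H := mem_bar.2 ⟨x, hx, hxH, rfl⟩

theorem pr_eq_one {x : X} (hx : x ∈ normalizer (N : Set X)) : pr N x hx = 1 ↔ x ∈ N := by
  unfold pr
  rw [QuotientGroup.mk'_apply, QuotientGroup.eq_one_iff, mem_subgroupOf]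

theorem pr_mul {x y : X} (hx : x ∈ normalizer (N : Set X)) (hy : y ∈ normalizer (N : Set X)) :
    pr N x hx * pr N y hy = pr N (x * y) (mul_mem hx hy) := rfl

theorem pr_inv {x : X} (hx : x ∈ normalizer (N : Set X)) :
    (pr N x hx)⁻¹ = pr N x⁻¹ (inv_mem hx) := rfl

theorem pr_comm_iff {x y : X} (hx : x ∈ normalizer (N : Set X))
    (hy : y ∈ normalizer (N : Set X)) :
    pr N x hx * pr N y hy = pr N y hy * pr N x hx ↔ x * y * x⁻¹ * y⁻¹ ∈ N := by
  have h1 : pr N (x * y * x⁻¹ * y⁻¹)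
      (mul_mem (mul_mem (mul_mem hx hy) (inv_mem hx)) (inv_mem hy))
      = pr N x hx * pr N y hy * (pr N x hx)⁻¹ * (pr N y hy)⁻¹ := rfl
  rw [← pr_eq_one (mul_mem (mul_mem (mul_mem hx hy) (inv_mem hx)) (inv_mem hy)), h1,
    mul_inv_eq_one, mul_inv_eq_iff_eq_mul]

theorem bar_mono {H L : Subgroup X} (h : H ≤ L) : bar N H ≤ bar N L :=
  map_mono (comap_mono h)

theorem bar_normalizes {A H : Subgroup X} (h : A ≤ normalizer (H : Set X)) :
    bar N A ≤ normalizer ((bar N H : Subgroup (Qt N)) : Set (Qt N)) :=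
  ((map_mono ((comap_mono h).trans (le_normalizer_comap _))).trans (le_normalizer_map _))

theorem card_bar_dvd (H : Subgroup X) : Nat.card (bar N H) ∣ Nat.card H :=
  (card_map_dvd _ _).trans
    (card_dvd_of_injective ((normalizer (N : Set X)).subtype.subgroupComap H)
      (fun _ _ hab => Subtype.ext (Subtype.ext (congrArg (fun z : H => (z : X)) hab))))

end Bar

/-- the section version: `M / N` abelian -/
theorem core3 (K R M N : Subgroup X) (hF : FrobFormula (Qt N)) {p : ℕ} (hp : p.Prime)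
    (hR : Nat.card R = p) (hRK : R ≤ normalizer (K : Set X))
    (hfpf : ∀ r ∈ R, r ≠ 1 → ∀ k ∈ K, r * k = k * r → k = 1)
    (hKnil : Group.IsNilpotent K)
    (hNM : N ≤ M) (hMN : M ≤ normalizer (N : Set X)) (hKN : K ≤ normalizer (N : Set X))
    (hRN : R ≤ normalizer (N : Set X)) (hab : ⁅M, M⁆ ≤ N)
    (hKM : K ≤ normalizer (M : Set X)) (hRM : R ≤ normalizer (M : Set X))
    (hcop : (Nat.card M).Coprime (Nat.card ↥(K ⊔ R))) (hMsolv : Group.IsSolvable M)
    (hcyc : IsCyclic ↥(M ⊓ centralizer (R : Set X))) :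
    ∀ a ∈ ⁅K, K⁆, ∀ m ∈ M, a * m * a⁻¹ * m⁻¹ ∈ N := by
  have hdisj : ∀ x ∈ K ⊔ R, x ∈ M → x = 1 := by
    intro x hx hxM
    have h1 : x ∈ M ⊓ (K ⊔ R) := ⟨hxM, hx⟩
    rw [Cfsg.Agent.Lib.Helper24.inf_eq_bot_of_coprime' hcop] at h1
    exact h1
  have hcardR : Nat.card (bar N R) = p := by
    have h1 : Nat.card (bar N R) ∣ p := hR ▸ card_bar_dvd R
    rcases (Nat.dvd_prime hp).1 h1 with h2 | h2
    · exfalso
      have hR1 : R ≠ ⊥ := by
        intro h
        rw [h, card_bot] at hR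
        exact hp.one_lt.ne hR
      obtain ⟨r, hr1⟩ := Subgroup.ne_bot_iff_exists_ne_one.1 hR1
      have h3 : pr N r (hRN r.2) ∈ bar N R := pr_mem_bar _ r.2
      rw [card_eq_one.1 h2, mem_bot, pr_eq_one] at h3
      exact hr1 (Subtype.ext (hdisj r (mem_sup_right r.2) (hNM h3)))
    · exact h2
  have hfpf' : ∀ r ∈ bar N R, r ≠ 1 → ∀ k ∈ bar N K, r * k = k * r → k = 1 := by
    intro r' hr' hr1 k' hk' hcomm
    obtain ⟨r, hrY, hrR, rfl⟩ := mem_bar.1 hr'
    obtain ⟨k, hkY, hkK, rfl⟩ := mem_bar.1 hk'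
    have h1 := (pr_comm_iff hrY hkY).1 hcomm
    have h2 : r * k * r⁻¹ * k⁻¹ ∈ K :=
      mul_mem ((mem_normalizer_iff.1 (hRK hrR) k).1 hkK) (inv_mem hkK)
    have h3 := hdisj _ (mem_sup_left h2) (hNM h1)
    have h4 : r * k = k * r := by
      rw [mul_inv_eq_one, mul_inv_eq_iff_eq_mul] at h3
      exact h3
    have hr1' : r ≠ 1 := by
      rintro rfl
      exact hr1 rfl
    have h5 := hfpf r hrR hr1' k hkK h4
    subst h5
    rfl
  have hnil : Group.IsNilpotent (bar N K) := by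
    haveI : Group.IsNilpotent (K.subgroupOf (normalizer (N : Set X))) :=
      Group.nilpotent_of_mulEquiv (subgroupOfEquivOfLe hKN).symm
    exact Group.nilpotent_of_surjective _
      ((QuotientGroup.mk' (N.subgroupOf (normalizer (N : Set X)))).subgroupMap_surjective _)
  have hcomm : IsMulCommutative (bar N M) := by
    refine ⟨⟨fun a b => Subtype.ext ?_⟩⟩
    obtain ⟨m, hmY, hmM, hm⟩ := mem_bar.1 a.2
    obtain ⟨m', hmY', hmM', hm'⟩ := mem_bar.1 b.2
    change (a : Qt N) * b = b * a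
    rw [← hm, ← hm', pr_comm_iff]
    have := hab (commutator_mem_commutator hmM hmM')
    rwa [commutatorElement_def] at this
  have hcop' : (Nat.card (bar N M)).Coprime (Nat.card ↥(bar N K ⊔ bar N R)) :=
    (hcop.coprime_dvd_left (card_bar_dvd M)).coprime_dvd_right
      ((card_dvd_of_le (sup_le (bar_mono le_sup_left) (bar_mono le_sup_right))).trans
        (card_bar_dvd (K ⊔ R)))
  have hcyc' : IsCyclic ↥(bar N M ⊓ centralizer ((bar N R : Subgroup (Qt N)) : Set (Qt N))) := by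
    have hle : bar N M ⊓ centralizer ((bar N R : Subgroup (Qt N)) : Set (Qt N))
        ≤ bar N (M ⊓ centralizer (R : Set X)) := by
      intro y hy
      obtain ⟨m, hmY, hmM, rfl⟩ := mem_bar.1 hy.1
      have hfix : ∀ a ∈ R, a * m * a⁻¹ * m⁻¹ ∈ N := fun a ha =>
        (pr_comm_iff (hRN ha) hmY).1 (mem_centralizer_iff.1 hy.2 _ (pr_mem_bar (hRN ha) ha))
      obtain ⟨c, hc, hcm⟩ := Cfsg.Agent.S0022.result R M hRM
        (hcop.coprime_dvd_right (card_dvd_of_le le_sup_right)).symm (Or.inr hMsolv) N hNM hMN hRN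
        m hmM hfix
      refine mem_bar.2 ⟨c, hMN hc.1, hc, ?_⟩
      have h1 : pr N (m⁻¹ * c) (mul_mem (inv_mem hmY) (hMN hc.1)) = 1 := (pr_eq_one _).2 hcm
      have h2 : (pr N m hmY)⁻¹ * pr N c (hMN hc.1) = 1 := h1
      exact (inv_mul_eq_one.1 h2).symm
    haveI : IsCyclic ((M ⊓ centralizer (R : Set X)).subgroupOf (normalizer (N : Set X))) :=
      (subgroupOfEquivOfLe (inf_le_left.trans hMN)).isCyclic.2 hcyc
    haveI : IsCyclic (bar N (M ⊓ centralizer (R : Set X))) :=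
      isCyclic_of_surjective _
        ((QuotientGroup.mk' (N.subgroupOf (normalizer (N : Set X)))).subgroupMap_surjective _)
    exact isCyclic_of_le hle
  have hmain := core2 hF (bar N K) (bar N R) (bar N M) hp hcardR (bar_normalizes hRK) hfpf' hnil
    hcomm (bar_normalizes hKM) (bar_normalizes hRM) hcop' hcyc'
  have hT : ⁅K, K⁆ ≤ ((⁅bar N K, bar N K⁆ : Subgroup (Qt N)).comap
      (QuotientGroup.mk' (N.subgroupOf (normalizer (N : Set X))))).map
      (normalizer (N : Set X)).subtype := by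
    rw [commutator_le]
    intro k hk k' hk'
    refine ⟨⁅(⟨k, hKN hk⟩ : normalizer (N : Set X)), (⟨k', hKN hk'⟩ : normalizer (N : Set X))⁆,
      ?_, rfl⟩
    rw [SetLike.mem_coe, mem_comap, map_commutatorElement]
    exact commutator_mem_commutator (pr_mem_bar (hKN hk) hk) (pr_mem_bar (hKN hk') hk')
  intro a ha m hm
  obtain ⟨⟨a', haY⟩, hamem, rfl⟩ := hT ha
  have h1 := mem_centralizer_iff.1 (hmain hamem) _ (pr_mem_bar (hMN hm) hm)
  exact (pr_comm_iff haY (hMN hm)).1 h1.symm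

theorem centralizer_zpowers' (x : X) :
    centralizer ((zpowers x : Subgroup X) : Set X) = centralizer ({x} : Set X) := by
  rw [Subgroup.zpowers_eq_closure, Subgroup.centralizer_closure]

theorem s1446_of_formula (K R M : Subgroup X) (hF : FrobFormula X)
    (hF' : FrobFormula (Qt ((frattini ↥M).map M.subtype)))
    (hK1 : K ≠ ⊥) (hR1 : R ≠ ⊥)
    (hRK : R ≤ Subgroup.normalizer (K : Set X))
    (hfrob : ∀ r ∈ R, r ≠ 1 → K ⊓ Subgroup.centralizer ({r} : Set X) = ⊥)
    (hM1 : M ≠ ⊥) (hMn : Group.IsNilpotent M) (hKM : K ≤ Subgroup.normalizer (M : Set X))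
    (hRM : R ≤ Subgroup.normalizer (M : Set X))
    (hcop : (Nat.card ↥(K ⊔ R)).Coprime (Nat.card M))
    (hCK : M ⊓ Subgroup.centralizer (K : Set X) = ⊥)
    (hpr : ∀ x ∈ R, x ≠ 1 →
      M ⊓ Subgroup.centralizer ({x} : Set X) = M ⊓ Subgroup.centralizer (R : Set X)) :
    (Nat.card R).Prime ∧
      Nat.card M = Nat.card ↥(M ⊓ Subgroup.centralizer (R : Set X)) ^ Nat.card R ∧
      (IsCyclic ↥(M ⊓ Subgroup.centralizer (R : Set X)) →
        ⁅K, K⁆ ≤ Subgroup.centralizer (M : Set X)) := by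
  have hfpf : ∀ r ∈ R, r ≠ 1 → ∀ k ∈ K, r * k = k * r → k = 1 := by
    intro r hr hr1 k hk hc
    have h1 : k ∈ K ⊓ centralizer ({r} : Set X) := ⟨hk, mem_centralizer_singleton_iff.2 hc.symm⟩
    rw [hfrob r hr hr1] at h1
    exact h1
  have hMsolv : Group.IsSolvable M := inferInstance
  have hb := tf hF hK1 hR1 hRK hfpf hKM hRM hMsolv hcop.symm hCK
  -- an element of prime order
  have hRc : Nat.card R ≠ 1 := fun h => hR1 (card_eq_one.1 h)
  obtain ⟨q, hq, hqd⟩ := Nat.exists_prime_and_dvd hRc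
  haveI : Fact q.Prime := ⟨hq⟩
  obtain ⟨x, hx⟩ := exists_prime_orderOf_dvd_card' (G := R) q hqd
  have hx' : orderOf (x : X) = q := by rw [Subgroup.orderOf_coe, hx]
  have hx1 : (x : X) ≠ 1 := by
    intro h
    rw [h, orderOf_one] at hx'
    exact hq.one_lt.ne hx'
  have hER : zpowers (x : X) ≤ R := by
    rw [zpowers_le]; exact x.2
  have hE1 : zpowers (x : X) ≠ ⊥ := by
    rw [Ne, zpowers_eq_bot]; exact hx1
  have hb' := tf hF hK1 hE1 (hER.trans hRK) (fun e he => hfpf e (hER he)) hKM (hER.trans hRM)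
    hMsolv (hcop.symm.coprime_dvd_right (card_dvd_of_le (sup_le_sup_left hER K))) hCK
  rw [centralizer_zpowers', hpr x x.2 hx1, Nat.card_zpowers, hx'] at hb'
  set c := Nat.card ↥(M ⊓ Subgroup.centralizer (R : Set X)) with hc
  have hc1 : 1 < c := by
    have hc0 : c ≠ 0 := Nat.card_pos.ne'
    have hc1 : c ≠ 1 := by
      intro h
      rw [h, one_pow] at hb
      exact hM1 (card_eq_one.1 hb)
    omega
  have hRq : Nat.card R = q := Nat.pow_right_injective hc1 (hb.symm.trans hb')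
  refine ⟨hRq ▸ hq, hb, fun hcyc => ?_⟩
  have hKnil : Group.IsNilpotent K :=
    nilpotent_of_fpf K hq hx' (hRK x.2) (fun k hk => hfpf x x.2 hx1 k hk)
  have hKK : ⁅K, K⁆ ≤ K := commutator_le_of_normalizes le_normalizer
  have hΦ : normalizer (M : Set X) ≤ normalizer (((frattini ↥M).map M.subtype : Subgroup X) : Set X) :=
    Cfsg.Agent.Lib.Helper47.normalizer_le_normalizer_frattiniOf M
  have hab : ⁅M, M⁆ ≤ (frattini ↥M).map M.subtype := by
    haveI : Group.IsNilpotent (⊤ : Subgroup M) := Group.nilpotent_of_mulEquiv topEquiv.symm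
    have h1 := Cfsg.Agent.Lib.Helper91.commutator_le_frattini (⊤ : Subgroup M) inferInstance
    have h2 : (⁅(⊤ : Subgroup M), (⊤ : Subgroup M)⁆ : Subgroup M).map M.subtype = ⁅M, M⁆ := by
      rw [Subgroup.map_commutator, ← MonoidHom.range_eq_map, Subgroup.range_subtype]
    rw [← h2]
    exact map_mono h1
  apply Cfsg.Agent.S0029.result ⁅K, K⁆ M (hKK.trans hKM)
  · exact (hcop.coprime_dvd_left (card_dvd_of_le (hKK.trans le_sup_left))).coprime_dvd_right
      (card_subgroup_dvd_card _)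
  · exact core3 K R M _ hF' hq hRq hRK hfpf hKnil (map_subtype_le _) (le_normalizer.trans hΦ)
      (hKM.trans hΦ) (hRM.trans hΦ) hab hKM hRM hcop.symm hMsolv hcyc

end Cfsg.Agent.Lib.Helper52.FrobCyc
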