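/-
Helper library (helper52): Bender–Glauberman 14.2(c): for a nontrivial Hall `κ(M)`-subgroup `K` and a
subgroup `X ≤ K* = M_σ ∩ C(K)` of prime order, `M` is the only maximal subgroup containing `C_G(X)`.
-/
import Cfsg.Agent.Lib.Helper52.BG14a
import Cfsg.Agent.Lib.Helper23.BGT2
import Cfsg.Agent.S1378
import Cfsg.Agent.S1417
import Cfsg.Agent.S1419

set_option autoImplicit false
set_option linter.unusedSimpArgs false
set_option linter.unusedVariables false
set_option linter.style.haveILetI false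
set_option linter.unusedSectionVars false

namespace Cfsg.Agent.Lib.Helper52.BG14

open Subgroup Cfsg
open Cfsg.Agent.Lib
open Cfsg.Agent.Lib.Helper24 Cfsg.Agent.Lib.Helper34 Cfsg.Agent.Lib.Helper31.BG11
open Cfsg.Agent.Lib.Helper34.BG13 Cfsg.Agent.Lib.Helper34.BG16
open scoped commutatorElement Pointwise

universe u

variable {G : Type u} [Group G]

/-- A subgroup of prime order is elementary abelian. -/
theorem elemAb_of_card_prime {X : Subgroup G} {q : ℕ} (hq : q.Prime) (hX : Nat.card X = q) :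
    IsElementaryAbelian q X := by
  haveI : Fact q.Prime := ⟨hq⟩
  constructor
  · haveI : IsCyclic X := isCyclic_of_prime_card hX
    exact ⟨⟨fun a b => IsCyclic.commGroup.mul_comm a b⟩⟩
  · intro a ha
    have := pow_card_eq_one' (G := X) (x := ⟨a, ha⟩)
    rw [hX] at this
    exact congrArg Subtype.val this

/-- `X` of order `q`, `y ∉ X` of order dividing `q` centralizing `X`: `X⟨y⟩` is elementary abelian of order
`q ^ 2`. -/
theorem elemAb_sq_of [Finite G] {X : Subgroup G} {q : ℕ} (hq : q.Prime) (hX : Nat.card X = q) {y : G}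
    (hy : y ∈ centralizer (X : Set G)) (hyq : y ^ q = 1) (hyX : y ∉ X) :
    IsElementaryAbelian q (X ⊔ zpowers y) ∧ Nat.card (X ⊔ zpowers y : Subgroup G) = q ^ 2 := by
  haveI : Fact q.Prime := ⟨hq⟩
  refine ⟨elemAb_sup_zpowers (elemAb_of_card_prime hq hX) hy hyq, ?_⟩
  have hy1 : y ≠ 1 := fun h => hyX (h ▸ one_mem X)
  have hyo : orderOf y = q := orderOf_eq_prime hyq hy1
  have hn : X ≤ normalizer ((zpowers y : Subgroup G) : Set G) := by
    refine le_trans ?_ (Subgroup.centralizer_le_normalizer _)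
    rw [le_centralizer_iff, zpowers_le]
    exact hy
  have hd : Disjoint X (zpowers y) := by
    rw [disjoint_iff, eq_bot_iff]
    intro z hz
    obtain ⟨hzX, hzy⟩ := mem_inf.1 hz
    by_contra hz1
    have hz1' : z ≠ 1 := fun h => hz1 (mem_bot.2 h)
    have h1 : zpowers y = zpowers z :=
      eq_zpowers_of_card_prime hq (by rw [Nat.card_zpowers, hyo]) hzy hz1'
    have h2 : X = zpowers z := eq_zpowers_of_card_prime hq hX hzX hz1'
    exact hyX (by rw [h2, ← h1]; exact mem_zpowers y)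
  rw [Helper1.card_sup_of_disjoint hn hd, hX, Nat.card_zpowers, hyo, sq]

/-- A nontrivial `q`-subgroup has a central element of order `q`. -/
theorem exists_central_of_order [Finite G] {S : Subgroup G} {q : ℕ} [hq : Fact q.Prime]
    (hS : IsPGroup q S) (hS1 : S ≠ ⊥) :
    ∃ z ∈ S, orderOf z = q ∧ ∀ s ∈ S, z * s = s * z := by
  haveI : Nontrivial S := (Subgroup.nontrivial_iff_ne_bot S).2 hS1
  haveI := hS.center_nontrivial
  obtain ⟨z, hz⟩ := exists_ne (1 : Subgroup.center S)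
  have hz1 : (z : S) ≠ 1 := fun h => hz (Subtype.ext h)
  obtain ⟨k, hk⟩ := hS (z : S)
  have ho : orderOf (z : S) ≠ 1 := fun h => hz1 (orderOf_eq_one_iff.1 h)
  have hqd : q ∣ orderOf (z : S) := by
    obtain ⟨j, -, hj⟩ := (Nat.dvd_prime_pow hq.out).1 (orderOf_dvd_of_pow_eq_one hk)
    rw [hj] at ho ⊢
    rcases j with _ | j
    · simp at ho
    · exact Dvd.intro_left _ (pow_succ q j).symm
  have ho' := orderOf_pow_orderOf_div (orderOf_pos (z : S)).ne' hqd
  refine ⟨(((z : S) ^ (orderOf (z : S) / q) : S) : G), SetLike.coe_mem _, ?_, ?_⟩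
  · rw [Subgroup.orderOf_coe, ho']
  · intro s hs
    have h1 : (z : S) ^ (orderOf (z : S) / q) ∈ Subgroup.center S := pow_mem z.2 _
    have := Subgroup.mem_center_iff.1 h1 ⟨s, hs⟩
    exact (congrArg Subtype.val this).symm

/-- If some `q`-subgroup is not abelian, no Sylow `q`-subgroup is abelian. -/
theorem sylow_not_comm_of [Finite G] {S : Subgroup G} {q : ℕ} [hq : Fact q.Prime]
    (hS : IsPGroup q S) {a b : G} (ha : a ∈ S) (hb : b ∈ S) (hab : a * b ≠ b * a) :
    ∀ Q : Sylow q G, ¬ IsMulCommutative (Q : Subgroup G) := by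
  intro Q hQ
  obtain ⟨Q', hQ'⟩ := hS.exists_le_sylow
  obtain ⟨g, rfl⟩ := MulAction.exists_smul_eq G Q Q'
  have ha' := hQ' ha
  have hb' := hQ' hb
  rw [Sylow.coe_subgroup_smul, Subgroup.mem_pointwise_smul_iff_inv_smul_mem] at ha' hb'
  have h := hQ.is_comm.comm ⟨_, ha'⟩ ⟨_, hb'⟩
  have h2 := congrArg Subtype.val h
  simp only [Subgroup.coe_mul, MulAut.smul_def, MulAut.conj_inv_apply, ← map_inv] at h2
  apply hab
  have h3 := congrArg (fun z => g * z * g⁻¹) h2
  simpa [mul_assoc] using h3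

section

variable [Finite G] {M K : Subgroup G}

/-- Any two Hall subgroups of `M` are conjugate in `M` (`cj` form). -/
theorem hall_conj (hG : IsMinSimpleOddOrder G) (hM : IsCoatom M) {π : Set ℕ} {H₁ H₂ : Subgroup G}
    (h₁ : IsPiHallOf π H₁ M) (h₂ : IsPiHallOf π H₂ M) : ∃ m ∈ M, cj m H₁ = H₂ := by
  obtain ⟨m, hm, h⟩ := Helper62.IsPiHallOf.exists_conj (MS_solvable hG hM.1) h₁ h₂
  refine ⟨m, hm, ?_⟩
  rw [← h]
  rfl

/-- `K* ≠ 1`. -/
theorem Kst_ne_bot (hG : IsMinSimpleOddOrder G) (hM : IsCoatom M) (hK : IsPiHallOf (kappa M) K M)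
    (hK1 : K ≠ ⊥) : Kst M K ≠ ⊥ := by
  have hcard : Nat.card K ≠ 1 := fun h => hK1 ((Subgroup.card_eq_one).1 h)
  obtain ⟨p, hp, hpd⟩ := Nat.exists_prime_and_dvd hcard
  haveI : Fact p.Prime := ⟨hp⟩
  have hκ := hK.2.1 p hp hpd
  obtain ⟨P⟩ : Nonempty (Sylow p M) := inferInstance
  obtain ⟨-, x, hxP, hx1, y, hy, hy1, hxy⟩ := hκ.2.2.2 P
  have hxpg : IsPGroup p (zpowers (x : G)) := by
    have h1 : IsPGroup p (zpowers x) := P.2.to_le (zpowers_le.2 hxP)
    have h2 := h1.map M.subtype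
    rwa [MonoidHom.map_zpowers] at h2
  obtain ⟨K', hK', hxK'⟩ := exists_hall_ge (π := kappa M) (MS_solvable hG hM.1)
    (zpowers_le.2 x.2) (by
      intro r hr hd
      obtain ⟨n, hn⟩ := IsPGroup.iff_card.1 hxpg
      rw [hn] at hd
      rw [(Nat.prime_dvd_prime_iff_eq hr hp).1 (hr.dvd_of_dvd_pow hd)]
      exact hκ)
  obtain ⟨m, hm, hmK⟩ := hall_conj hG hM hK' hK
  have hxK : m * x * m⁻¹ ∈ K := by
    rw [← hmK]
    exact conj_mem_map_conj (hxK' (mem_zpowers _))
  have hx1' : m * (x : G) * m⁻¹ ≠ 1 := by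
    intro h
    apply hx1
    have := congrArg (fun z => m⁻¹ * z * m) h
    apply Subtype.ext
    simpa [mul_assoc] using this
  have hy' : m * y * m⁻¹ ∈ Kst M K := by
    rw [← P1 hG hM hK hK1 hxK hx1']
    refine mem_inf.2 ⟨le_normalizer_iff.mp (sc_norm M) m hm y hy, ?_⟩
    rw [mem_centralizer_singleton_iff]
    calc m * y * m⁻¹ * (m * x * m⁻¹) = m * (y * x) * m⁻¹ := by group
      _ = m * (x * y) * m⁻¹ := by rw [hxy]
      _ = m * x * m⁻¹ * (m * y * m⁻¹) := by group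
  intro h
  rw [h, mem_bot] at hy'
  apply hy1
  have := congrArg (fun z => m⁻¹ * z * m) hy'
  simpa [mul_assoc] using this

/-- **BG 14.2(c)**. -/
theorem cent_uniq (hG : IsMinSimpleOddOrder G) (hM : IsCoatom M) (hK : IsPiHallOf (kappa M) K M)
    (hK1 : K ≠ ⊥) {X : Subgroup G} (hX : X ≤ Kst M K) (hXp : (Nat.card X).Prime) :
    centralizer (X : Set G) ≤ M ∧
      ∀ L : Subgroup G, IsCoatom L → centralizer (X : Set G) ≤ L → L = M := by
  have hU := hU_of hG
  obtain ⟨q, hq⟩ : ∃ q, Nat.card X = q := ⟨_, rfl⟩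
  rw [hq] at hXp
  haveI : Fact q.Prime := ⟨hXp⟩
  have hX1 : X ≠ ⊥ := by
    intro h
    rw [h, card_bot] at hq
    exact hXp.one_lt.ne hq
  have hXea := elemAb_of_card_prime hXp hq
  have hXX : X ≤ centralizer (X : Set G) := le_centralizer_iff_isMulCommutative.mpr hXea.1
  have hCM : centralizer (X : Set G) ≤ M :=
    (Subgroup.centralizer_le_normalizer _).trans (Q1 hG hM hK hK1 hX hX1)
  refine ⟨hCM, ?_⟩
  intro L hL hCL
  by_contra hne
  have hXσ : X ≤ sigmaCore M := hX.trans inf_le_left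
  -- `L` is not conjugate to `M`
  have hnc : ¬ ∃ g : G, L = cj g M := by
    rintro ⟨g, rfl⟩
    have hg : g ∉ M := fun h => hne (cj_eq_of_mem h)
    have h1 : X ≤ Kst M K ⊓ cj g M := le_inf hX (hXX.trans hCL)
    rw [P4 hG hM hK hK1 hg] at h1
    exact hX1 (le_bot_iff.1 h1)
  have hqM : q ∈ sigma M := sc_primes M hXp (hq ▸ card_dvd_of_le hXσ)
  have hqL : q ∉ sigma L := fun h =>
    hnc ((Cfsg.Agent.S1378.result hG).2 M L hM hL ⟨q, hqM, h⟩)
  -- a Sylow subgroup of `M_σ` over `X`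
  have hXpg : IsPGroup q (X.subgroupOf (sigmaCore M)) :=
    (IsPGroup.of_card (n := 1) (by rw [hq, pow_one])).comap_subtype
  obtain ⟨S, hS⟩ := hXpg.exists_le_sylow
  have hqK : q ∣ Nat.card (Kst M K) := hq ▸ card_dvd_of_le hX
  obtain ⟨hSu, hSM, -⟩ := P6 hG hM hK hK1 hXp hqK S
  set S' : Subgroup G := (S : Subgroup ↥(sigmaCore M)).map (sigmaCore M).subtype with hS'
  have hXS : X ≤ S' := by
    intro x hx
    exact ⟨⟨x, hXσ hx⟩, hS (mem_subgroupOf.2 hx), rfl⟩
  have hS'pg : IsPGroup q S' := S.2.map _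
  have hSL : ¬ S' ≤ L := fun h => hne (eq_of_inUniqueMaximal hSu hM hSM hL h)
  have hSC : ¬ S' ≤ centralizer (X : Set G) := fun h => hSL (h.trans hCL)
  have hS'1 : S' ≠ ⊥ := fun h => hX1 (le_bot_iff.1 (h ▸ hXS))
  -- the Sylow subgroups of `G` are not abelian
  have hna : ∀ Q : Sylow q G, ¬ IsMulCommutative (Q : Subgroup G) := by
    by_contra hcon
    apply hSC
    intro s hs
    rw [mem_centralizer_iff]
    intro x hx
    by_contra hxs
    exact hcon (sylow_not_comm_of hS'pg (hXS hx) hs hxs)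
  by_cases hy : ∃ y ∈ S' ⊓ centralizer (X : Set G), y ^ q = 1 ∧ y ∉ X
  · obtain ⟨y, hyT, hyq, hyX⟩ := hy
    obtain ⟨hyS, hyC⟩ := mem_inf.1 hyT
    obtain ⟨hA, hAc⟩ := elemAb_sq_of hXp hq hyC hyq hyX
    have hAL : X ⊔ zpowers y ≤ L := sup_le (hXX.trans hCL) (zpowers_le.2 (hCL hyC))
    have hAM : X ⊔ zpowers y ≤ M := sup_le (hXX.trans hCM) (zpowers_le.2 (hCM hyC))
    have hr1 : ¬ PRankLE q 1 L := not_pRankLE_of_le hAL hA.1 hA.2 (by
      rw [hAc]
      exact Nat.pow_lt_pow_right hXp.one_lt (by norm_num))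
    have hr2 : PRankLE q 2 L := by
      by_contra h2
      exact hqL (alpha_subset_sigma hG hU hL ⟨hXp, h2⟩)
    have hτ : q ∈ tau2 L := ⟨hXp, hqL, hr2, hr1⟩
    obtain ⟨E, hE, hAE⟩ := exists_compl_ge hG hU hL hAL (by
      intro r hr hd
      rw [hAc] at hd
      rw [(Nat.prime_dvd_prime_iff_eq hr hXp).mp (hr.dvd_of_dvd_pow hd)]
      exact hqL)
    have h17 := (Cfsg.Agent.S1417.result hG L hL q hτ _ ⟨hAL, hA, hAc⟩).2.2.2.2.1 M hM
      (fun h => hne h.symm) hAM
    have h19 := (Cfsg.Agent.S1419.result hG L hL E hE q hτ hna _ ⟨hAE, hA, hAc⟩).2.2 X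
      (le_sup_left.trans hAE) hq
    by_cases hXA : X = (X ⊔ zpowers y) ⊓ centralizer (sigmaCore L : Set G)
    · have h1 : X ≤ centralizer (sigmaCore L : Set G) := by
        rw [hXA]; exact inf_le_right
      have h2 : sigmaCore L ≤ centralizer (X : Set G) := le_centralizer_iff.1 h1
      have h3 : sigmaCore L ≤ sigmaCore L ⊓ M := le_inf le_rfl (h2.trans hCM)
      rw [h17] at h3
      exact Helper23T.sc_ne_bot hG hU hL (le_bot_iff.1 h3)
    · exact (h19 hXA).2 hCL
  · push Not at hy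
    obtain ⟨z, hzS, hzo, hzc⟩ := exists_central_of_order hS'pg hS'1
    have hzX : z ∈ X := by
      refine hy z (mem_inf.2 ⟨hzS, ?_⟩) (by rw [← hzo, pow_orderOf_eq_one])
      rw [mem_centralizer_iff]
      intro x hx
      exact (hzc x (hXS hx)).symm
    have hz1 : z ≠ 1 := by
      intro h
      rw [h, orderOf_one] at hzo
      exact hXp.one_lt.ne hzo
    apply hSC
    rw [centralizer_eq_of_card_prime hXp hq hzX hz1]
    intro s hs
    rw [mem_centralizer_singleton_iff]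
    exact (hzc s hs).symm

end

end Cfsg.Agent.Lib.Helper52.BG14
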