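/-
Helper library (helper52): Bender–Glauberman Section 15, the key lemma for Theorem 15.6 (row S1435):
local part (inside one maximal subgroup `H` with `κ(H) = ∅`).
-/
import Cfsg.Agent.Lib.Helper52.BG14b
import Cfsg.Agent.Lib.Helper24.BG13F
import Cfsg.Agent.Lib.Helper1.BG1211Q5
import Cfsg.Agent.Lib.Helper23.BGT2

set_option autoImplicit false
set_option linter.unusedSimpArgs false
set_option linter.unusedVariables false
set_option linter.style.haveILetI false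
set_option linter.unusedSectionVars false

namespace Cfsg.Agent.Lib.Helper52.BG15

open Subgroup Cfsg
open Cfsg.Agent.Lib
open Cfsg.Agent.Lib.Helper24 Cfsg.Agent.Lib.Helper34 Cfsg.Agent.Lib.Helper31.BG11
open Cfsg.Agent.Lib.Helper34.BG13 Cfsg.Agent.Lib.Helper34.BG16
open Cfsg.Agent.Lib.Helper52.BG14
open scoped commutatorElement Pointwise

universe u

variable {G : Type u} [Group G]

/-- A group of prime order acting without fixed points. -/
theorem fpf_of {K T : Subgroup G} {k : ℕ} (hk : k.Prime) (hKc : Nat.card K = k)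
    (hC : T ⊓ centralizer (K : Set G) = ⊥) :
    ∀ e ∈ K, e ≠ 1 → ∀ t ∈ T, e * t = t * e → t = 1 := by
  intro e he he1 t ht h
  have h1 : t ∈ T ⊓ centralizer (K : Set G) := by
    refine mem_inf.2 ⟨ht, ?_⟩
    rw [centralizer_eq_of_card_prime hk hKc he he1, mem_centralizer_singleton_iff]
    exact h.symm
  rwa [hC, mem_bot] at h1

/-- `K ≤ A`, `T` normalizes `A`, `K` normalizes `T`, `A ∩ T = 1`: `T` centralizes `K`. -/
theorem le_centralizer_of_inf_eq_bot {A T K : Subgroup G} (hKA : K ≤ A)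
    (hTA : T ≤ normalizer (A : Set G)) (hKT : K ≤ normalizer (T : Set G)) (hAT : A ⊓ T = ⊥) :
    T ≤ centralizer (K : Set G) := by
  intro t ht
  rw [mem_centralizer_iff]
  intro e he
  have h1 : t * e * t⁻¹ * e⁻¹ ∈ A ⊓ T := by
    refine mem_inf.2 ⟨?_, ?_⟩
    · exact mul_mem (le_normalizer_iff.mp hTA t ht e (hKA he)) (inv_mem (hKA he))
    · have := le_normalizer_iff.mp hKT e he t⁻¹ (inv_mem ht)
      have h2 : t * e * t⁻¹ * e⁻¹ = t * (e * t⁻¹ * e⁻¹) := by group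
      rw [h2]
      exact mul_mem ht this
  rw [hAT, mem_bot] at h1
  have : t * e = e * t := by
    calc t * e = (t * e * t⁻¹ * e⁻¹) * (e * t) := by group
      _ = e * t := by rw [h1, one_mul]
  exact this.symm

theorem inf_eq_bot_of_pgroups [Finite G] {A T : Subgroup G} {k u : ℕ} [Fact k.Prime] [Fact u.Prime]
    (hku : u ≠ k) (hA : IsPGroup k A) (hT : IsPGroup u T) : A ⊓ T = ⊥ :=
  (IsPGroup.disjoint_of_ne k u (Ne.symm hku) A T hA hT).eq_bot

section

variable [Finite G] {H E K T : Subgroup G} {k u : ℕ}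

theorem coprime_sc_of_le (hG : IsMinSimpleOddOrder G) (hH : IsCoatom H)
    (hE : IsComplIn E (sigmaCore H) H) {Y : Subgroup G} (hY : Y ≤ E) :
    (Nat.card (sigmaCore H)).Coprime (Nat.card Y) :=
  Nat.coprime_of_dvd fun r hr h1 h2 =>
    compl_not_sigma hG (hU_of hG) hH hE hr (h2.trans (card_dvd_of_le hY)) (sc_primes H hr h1)

theorem sc_solvable (hG : IsMinSimpleOddOrder G) (hH : IsCoatom H) :
    Group.IsSolvable (sigmaCore H) :=
  MS_solvable hG (fun h => hH.1 (top_le_iff.mp (h ▸ sc_le H)))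

/-- (b) -/
theorem T_not_tau2 (hG : IsMinSimpleOddOrder G) (hH : IsCoatom H)
    (hE : IsComplIn E (sigmaCore H) H) (hk : k.Prime) (hKc : Nat.card K = k) (hKE : K ≤ E)
    (hTE : T ≤ E) [Fact u.Prime] (hT : IsPGroup u T) (hu : u ≠ k)
    (hKT : K ≤ normalizer (T : Set G)) (hC : T ⊓ centralizer (K : Set G) = ⊥) (hT1 : T ≠ ⊥) :
    k ∉ tau2 H := by
  intro hk2
  haveI : Fact k.Prime := ⟨hk⟩
  obtain ⟨B, hB⟩ := exists_T2 hE hk2
  obtain ⟨⟨hEN, hall⟩, -, -⟩ := h18_of hG H hH E hE k hB.tau B ⟨hB.le, hB.elem, hB.card⟩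
  have h1 := le_centralizer_of_inf_eq_bot (hall K hKE hKc) (hTE.trans hEN) hKT
    (inf_eq_bot_of_pgroups hu hB.pg hT)
  exact hT1 (by rw [← hC]; exact (inf_eq_left.2 h1).symm)

/-- (c) -/
theorem cent_sc_eq_bot (hG : IsMinSimpleOddOrder G) (hH : IsCoatom H) (hκ : kappa H = ∅)
    (hE : IsComplIn E (sigmaCore H) H) (hk : k.Prime) (hKc : Nat.card K = k) (hKE : K ≤ E)
    (hk2 : k ∉ tau2 H) : sigmaCore H ⊓ centralizer (K : Set G) = ⊥ := by
  have hU := hU_of hG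
  have hσ : k ∉ sigma H := compl_not_sigma hG hU hH hE hk (hKc ▸ card_dvd_of_le hKE)
  have h1 : PRankLE k 1 H := (tau2_or_rank_one hG hU hH hk hσ).resolve_left hk2
  rw [eq_bot_iff_forall]
  intro y hy
  by_contra hy1
  obtain ⟨w, hw, hw1⟩ := exists_ne_one_of_card_prime hk hKc
  have hwo : orderOf w = k := by
    have h2 : orderOf w ∣ k := hKc ▸ orderOf_dvd_card_of_mem hw
    rcases (Nat.dvd_prime hk).1 h2 with h | h
    · exact absurd (orderOf_eq_one_iff.1 h) hw1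
    · exact h
  have := mem_kappa_of hG hH hk hσ h1 (hE.1 (hKE hw)) hwo (mem_inf.1 hy).1 hy1
    (mem_centralizer_iff.1 (mem_inf.1 hy).2 w hw)
  rw [hκ] at this
  exact this

/-- (d) -/
theorem sc_le_centralizer (hG : IsMinSimpleOddOrder G) (hH : IsCoatom H)
    (hE : IsComplIn E (sigmaCore H) H) (hk : k.Prime) (hKc : Nat.card K = k) (hKE : K ≤ E)
    (hTE : T ≤ E) (hKT : K ≤ normalizer (T : Set G)) (hC : T ⊓ centralizer (K : Set G) = ⊥)
    (hT1 : T ≠ ⊥) (hCK : sigmaCore H ⊓ centralizer (K : Set G) = ⊥) :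
    sigmaCore H ≤ centralizer (T : Set G) := by
  have hK1 : K ≠ ⊥ := by
    rintro rfl
    rw [card_bot] at hKc
    exact hk.one_lt.ne hKc
  refine Helper24.BG13F.frob_centralizes hT1 hK1 hKT (fpf_of hk hKc hC)
    ((hTE.trans hE.1).trans (sc_norm H)) ((hKE.trans hE.1).trans (sc_norm H)) (sc_solvable hG hH)
    (coprime_sc_of_le hG hH hE (sup_le hTE hKE)) ?_
  rw [hCK]
  exact bot_le

theorem exists_orderOf_eq [hu : Fact u.Prime] (hT : IsPGroup u T) (hT1 : T ≠ ⊥) :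
    ∃ w ∈ T, orderOf w = u := by
  obtain ⟨z, hz, hzo, -⟩ := exists_central_of_order hT hT1
  exact ⟨z, hz, hzo⟩

/-- (e) -/
theorem T_tau2 (hG : IsMinSimpleOddOrder G) (hH : IsCoatom H) (hκ : kappa H = ∅)
    (hE : IsComplIn E (sigmaCore H) H) (hTE : T ≤ E) [hu : Fact u.Prime] (hT : IsPGroup u T)
    (hT1 : T ≠ ⊥) (hcT : sigmaCore H ≤ centralizer (T : Set G)) : u ∈ tau2 H := by
  have hU := hU_of hG
  obtain ⟨w, hw, hwo⟩ := exists_orderOf_eq hT hT1
  have hσ : u ∉ sigma H := compl_not_sigma hG hU hH hE hu.out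
    (hwo ▸ orderOf_dvd_card_of_mem (hTE hw))
  refine (tau2_or_rank_one hG hU hH hu.out hσ).resolve_right ?_
  intro h1
  obtain ⟨y, hy, hy1⟩ : ∃ y ∈ sigmaCore H, y ≠ 1 := by
    by_contra hcon
    push Not at hcon
    exact Helper23T.sc_ne_bot hG hU hH ((eq_bot_iff_forall _).mpr hcon)
  have := mem_kappa_of hG hH hu.out hσ h1 (hE.1 (hTE hw)) hwo hy hy1
    (mem_centralizer_iff.1 (hcT hy) w hw)
  rw [hκ] at this
  exact this

theorem card_eq_of_le_sq {B X : Subgroup G} [hu : Fact u.Prime] (hB : Nat.card B = u ^ 2)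
    (hXB : X ≤ B) (hX1 : X ≠ ⊥) (hXB' : X ≠ B) : Nat.card X = u := by
  have hd := card_dvd_of_le hXB
  rw [hB] at hd
  obtain ⟨i, hi, hc⟩ := (Nat.dvd_prime_pow hu.out).1 hd
  interval_cases i
  · exact absurd (card_eq_one.1 (by simpa using hc)) hX1
  · simpa using hc
  · exact absurd (eq_of_le_of_card_ge hXB (by rw [hB, hc])) hXB'

theorem eq_bot_or_eq_of_card_prime {A Y : Subgroup G} (hu : u.Prime) (hA : Nat.card A = u)
    (hYA : Y ≤ A) : Y = ⊥ ∨ Y = A := by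
  have hd := card_dvd_of_le hYA
  rw [hA] at hd
  rcases (Nat.dvd_prime hu).1 hd with h | h
  · exact Or.inl (card_eq_one.1 h)
  · exact Or.inr (eq_of_le_of_card_ge hYA (by rw [hA, h]))

/-- `N(X) ≤ H` for a subgroup `X ≤ B` of order `u` centralizing `H_σ`. -/
theorem normalizer_le_of_centralizes (hG : IsMinSimpleOddOrder G) (hH : IsCoatom H)
    (hE : IsComplIn E (sigmaCore H) H) [hu : Fact u.Prime] {B X : Subgroup G} (hB : T2 H E u B)
    (hXB : X ≤ B) (hXc : Nat.card X = u) (hX : sigmaCore H ≤ centralizer (X : Set G)) :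
    normalizer (X : Set G) ≤ H := by
  obtain ⟨-, -, huniq⟩ := h18_of hG H hH E hE u hB.tau B ⟨hB.le, hB.elem, hB.card⟩
  have hne : sigmaCore H ⊓ centralizer (X : Set G) ≠ ⊥ := by
    rw [inf_eq_left.2 hX]
    exact Helper23T.sc_ne_bot hG (hU_of hG) hH
  obtain ⟨-, h2⟩ := huniq X hXB hXc hne
  have hX1 : X ≠ ⊥ := by
    rintro rfl
    rw [card_bot] at hXc
    exact hu.out.one_lt.ne hXc
  have hXp : IsPGroup u X := hB.pg.to_le hXB
  obtain ⟨L, hL, hNL⟩ := exists_coatom_ge (MS_normalizer_ne_top hG hX1 (MS_isPGroup_ne_top hG hXp))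
  have := h2 L hL ((Subgroup.centralizer_le_normalizer _).trans hNL)
  rwa [this] at hNL

/-- (e)-(i): the structure forced by a nontrivial `T`. -/
theorem T_struct (hG : IsMinSimpleOddOrder G) (hH : IsCoatom H) (hκ : kappa H = ∅)
    (hE : IsComplIn E (sigmaCore H) H) (hk : k.Prime) (hKc : Nat.card K = k) (hKE : K ≤ E)
    (hTE : T ≤ E) [hu : Fact u.Prime] (hT : IsPGroup u T) (hu' : u ≠ k)
    (hKT : K ≤ normalizer (T : Set G)) (hC : T ⊓ centralizer (K : Set G) = ⊥) (hT1 : T ≠ ⊥) :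
    ∃ B X₂ : Subgroup G, T2 H E u B ∧ X₂ ≤ B ∧ Nat.card X₂ = u ∧ X₂ ≤ centralizer (K : Set G) ∧
      normalizer (B : Set G) ≤ normalizer (X₂ : Set G) ∧ E ≤ normalizer (B : Set G) ∧
      ∃ w ∈ B, w ≠ 1 ∧ sigmaCore H ≤ centralizer ({w} : Set G) := by
  have hU := hU_of hG
  have hk2 := T_not_tau2 hG hH hE hk hKc hKE hTE hT hu' hKT hC hT1
  have hCK := cent_sc_eq_bot hG hH hκ hE hk hKc hKE hk2
  have hcT := sc_le_centralizer hG hH hE hk hKc hKE hTE hKT hC hT1 hCK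
  have hu2 := T_tau2 hG hH hκ hE hTE hT hT1 hcT
  obtain ⟨B, hB⟩ := exists_T2 hE hu2
  obtain ⟨⟨hEN, hall⟩, ⟨-, -, hNB⟩, -⟩ := h18_of hG H hH E hE u hB.tau B ⟨hB.le, hB.elem, hB.card⟩
  obtain ⟨-, -, -, hCB, -, -⟩ := h17_of hG H hH u hB.tau B ⟨hB.le.trans hE.1, hB.elem, hB.card⟩
  have hsc1 := Helper23T.sc_ne_bot hG hU hH
  have hnotB : ¬ sigmaCore H ≤ centralizer (B : Set G) := by
    intro h
    rw [inf_eq_left.2 h] at hCB
    exact hsc1 hCB
  obtain ⟨w, hw, hwo⟩ := exists_orderOf_eq hT hT1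
  have hw1 : w ≠ 1 := by
    rintro rfl
    rw [orderOf_one] at hwo
    exact hu.out.one_lt.ne hwo
  have hwB : w ∈ B := hall (zpowers w) (zpowers_le.2 (hTE hw)) (by rw [Nat.card_zpowers, hwo])
    (mem_zpowers w)
  have hKB : K ≤ normalizer (B : Set G) := hKE.trans hEN
  have hX1 : B ⊓ centralizer (K : Set G) ≠ ⊥ := fun h =>
    hnotB (sc_le_centralizer hG hH hE hk hKc hKE hB.le hKB h hB.ne_bot hCK)
  have hXB : B ⊓ centralizer (K : Set G) ≠ B := by
    intro h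
    have h1 : w ∈ T ⊓ centralizer (K : Set G) := mem_inf.2 ⟨hw, (mem_inf.1 (h ▸ hwB)).2⟩
    rw [hC, mem_bot] at h1
    exact hw1 h1
  have hXc := card_eq_of_le_sq hB.card inf_le_left hX1 hXB
  refine ⟨B, B ⊓ centralizer (K : Set G), hB, inf_le_left, hXc, inf_le_right, ?_, hEN, w, hwB, hw1,
    hcT.trans (centralizer_le (by simpa using hw))⟩
  have hu2' : u ≠ 2 := MS_prime_ne_two hG (H := B) hB.dvd_card
  have hNt : normalizer (B : Set G) ≠ ⊤ :=
    MS_normalizer_ne_top hG hB.ne_bot (MS_isPGroup_ne_top hG hB.pg)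
  rcases Helper1.BG1211.line_or_abelian hu2' hB.elem hB.card (le_refl (normalizer (B : Set G)))
    (MS_odd hG _) (MS_solvable hG hNt) with ⟨A₁, hA₁B, hA₁c, hNA₁⟩ | hab
  · rcases eq_bot_or_eq_of_card_prime hu.out hA₁c
      (inf_le_left : A₁ ⊓ centralizer (K : Set G) ≤ A₁) with h | h
    · exfalso
      have hA₁1 : A₁ ≠ ⊥ := by
        rintro rfl
        rw [card_bot] at hA₁c
        exact hu.out.one_lt.ne hA₁c
      have h1 := sc_le_centralizer hG hH hE hk hKc hKE (hA₁B.trans hB.le) (hKB.trans hNA₁) h hA₁1 hCK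
      exact hNB (hNA₁.trans (normalizer_le_of_centralizes hG hH hE hB hA₁B hA₁c h1))
    · have h1 : A₁ ≤ B ⊓ centralizer (K : Set G) := le_inf hA₁B (inf_eq_left.1 h)
      have h2 : A₁ = B ⊓ centralizer (K : Set G) := eq_of_le_of_card_ge h1 (by rw [hA₁c, hXc])
      rwa [h2] at hNA₁
  · rw [le_normalizer_iff]
    intro n hn b hb
    have hbB := (mem_inf.1 hb).1
    have hbK := (mem_inf.1 hb).2
    refine mem_inf.2 ⟨le_normalizer_iff.mp le_rfl n hn b hbB, ?_⟩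
    rw [mem_centralizer_iff]
    intro e he
    have hc : ⁅e⁻¹, n⁻¹⁆ ∈ centralizer (B : Set G) :=
      hab (commutator_mem_commutator (inv_mem (hKB he)) (inv_mem hn))
    have h1 : b * ⁅e⁻¹, n⁻¹⁆ = ⁅e⁻¹, n⁻¹⁆ * b := mem_centralizer_iff.1 hc b hbB
    have h2 : e * b = b * e := mem_centralizer_iff.1 hbK e he
    have h3 : n⁻¹ * e * n = e * ⁅e⁻¹, n⁻¹⁆ := by rw [commutatorElement_def]; group
    calc e * (n * b * n⁻¹) = n * ((n⁻¹ * e * n) * b) * n⁻¹ := by group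
      _ = n * (e * (⁅e⁻¹, n⁻¹⁆ * b)) * n⁻¹ := by rw [h3]; simp only [mul_assoc]
      _ = n * (e * (b * ⁅e⁻¹, n⁻¹⁆)) * n⁻¹ := by rw [h1]
      _ = n * (b * (e * ⁅e⁻¹, n⁻¹⁆)) * n⁻¹ := by rw [← mul_assoc e b, h2, mul_assoc b e]
      _ = n * (b * (n⁻¹ * e * n)) * n⁻¹ := by rw [h3]
      _ = n * b * n⁻¹ * e := by group

end

end Cfsg.Agent.Lib.Helper52.BG15
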