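/-
Helper library (helper52): Bender–Glauberman Section 15, the key lemma for Theorem 15.6 (row S1435).
-/
import Cfsg.Agent.Lib.Helper52.BG15a
import Cfsg.Agent.Lib.Helper20.BG146e
import Cfsg.Agent.S1372
import Cfsg.Agent.S1378
import Cfsg.Agent.S1404
import Cfsg.Agent.S1408
import Cfsg.Agent.S1432

set_option autoImplicit false
set_option linter.unusedSimpArgs false
set_option linter.unusedVariables false
set_option linter.style.haveILetI false
set_option linter.unusedSectionVars false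

namespace Cfsg.Agent.Lib.Helper52.BG15

open Subgroup Cfsg
open Cfsg.Agent.Lib
open Cfsg.Agent.Lib.Helper24 Cfsg.Agent.Lib.Helper34 Cfsg.Agent.Lib.Helper31.BG11
open Cfsg.Agent.Lib.Helper34.BG13 Cfsg.Agent.Lib.Helper34.BG16
open Cfsg.Agent.Lib.Helper52.BG14
open scoped commutatorElement Pointwise

universe u

variable {G : Type u} [Group G] [Finite G]

/-- A maximal subgroup `L` over `C(X)`, `X ≠ 1` a `p`-subgroup of `M`, `p ∈ σ(M) ∩ σ(L)`, is `M`. -/
theorem eq_of_sigma_of_centralizer_le (hG : IsMinSimpleOddOrder G) {M L X : Subgroup G}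
    (hM : IsCoatom M) (hL : IsCoatom L) {p : ℕ} [Fact p.Prime] (hpM : p ∈ sigma M)
    (hpL : p ∈ sigma L) (hXp : IsPGroup p X) (hX1 : X ≠ ⊥) (hXM : X ≤ M) (hXL : X ≤ L)
    (hCL : centralizer (X : Set G) ≤ L) : L = M := by
  obtain ⟨g, hg⟩ := (Cfsg.Agent.S1378.result hG).2 M L hM hL ⟨p, hpM, hpL⟩
  have hg' : L = cj g M := hg
  have h1 : cj g⁻¹ X ≤ M := le_cj_iff.mp (hg' ▸ hXL)
  obtain ⟨m, hm, c, hc, hgmc⟩ := (Cfsg.Agent.S1404.result hG M hM p hpM X hXp hX1 hXM).1 g⁻¹ h1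
  have hgc : g = c⁻¹ * m⁻¹ := by
    have : g = (g⁻¹)⁻¹ := (inv_inv g).symm
    rw [this, hgmc, mul_inv_rev]
  have h2 : L = cj c⁻¹ M := by
    rw [hg', hgc, ← cj_cj, cj_eq_of_mem (inv_mem hm)]
  have h3 : cj c L = L := cj_eq_of_mem (hCL hc)
  rw [← h3, h2]
  have := cj_cj_inv c M
  exact this

theorem le_of_compl_le {H E N : Subgroup G} (hE : IsComplIn E (sigmaCore H) H) (h1 : E ≤ N)
    (h2 : sigmaCore H ≤ N) : H ≤ N := by
  intro h hh
  obtain ⟨a, ha, b, hb, rfl⟩ := hE.2.2.2 h hh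
  exact mul_mem (h1 ha) (h2 hb)

theorem orderOf_eq_of_card_prime {X : Subgroup G} {p : ℕ} (hp : p.Prime) (hX : Nat.card X = p)
    {x : G} (hx : x ∈ X) (hx1 : x ≠ 1) : orderOf x = p := by
  have h2 : orderOf x ∣ p := hX ▸ orderOf_dvd_card_of_mem hx
  rcases (Nat.dvd_prime hp).1 h2 with h | h
  · exact absurd (orderOf_eq_one_iff.1 h) hx1
  · exact h

/-- **Key Lemma T.** -/
theorem lemmaT (hG : IsMinSimpleOddOrder G) {M K U Mstar : Subgroup G} (hM : IsCoatom M)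
    (hKU : IsSigmaDecomposition M K U) (hK1 : K ≠ ⊥) (hU1 : U ≠ ⊥) (hMstar : IsCoatom Mstar)
    (hKst : K = sigmaCore Mstar ⊓
      Subgroup.centralizer ((sigmaCore M ⊓ Subgroup.centralizer (K : Set G)) : Set G))
    (hKstH : IsPiHallOf (kappa Mstar) (sigmaCore M ⊓ Subgroup.centralizer (K : Set G)) Mstar)
    {H E T : Subgroup G} (hH : IsCoatom H) (hk : kappa H = ∅) (hE : IsComplIn E (sigmaCore H) H)
    (hKE : K ≤ E) (hTE : T ≤ E) {u : ℕ} [hu : Fact u.Prime] (hT : IsPGroup u T)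
    (hu' : u ≠ Nat.card K) (hKT : K ≤ Subgroup.normalizer (T : Set G))
    (hC : T ⊓ Subgroup.centralizer (K : Set G) = ⊥) : T = ⊥ := by
  by_contra hT1
  have hU := hU_of hG
  obtain ⟨hkp, hTI, hscF⟩ := Cfsg.Agent.S1372.result hG M hM K U hKU hK1 hU1
  obtain ⟨B, X₂, hB, hX₂B, hX₂c, hX₂K, hNN, hEN, w, hwB, hw1, hwc⟩ :=
    T_struct hG hH hk hE hkp rfl hKE hTE hT hu' hKT hC hT1
  have hKs1 := Kst_ne_bot hG hM hKU.hall hK1
  obtain ⟨hCK, -⟩ := cent_uniq hG hMstar hKstH hKs1 (le_of_eq hKst) hkp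
  have hX₂M : X₂ ≤ Mstar := hX₂K.trans hCK
  have hKσ : K ≤ sigmaCore Mstar := (le_of_eq hKst).trans inf_le_left
  have hX₂1 : X₂ ≠ ⊥ := by
    rintro rfl
    rw [card_bot] at hX₂c
    exact hu.out.one_lt.ne hX₂c
  have hX₂p : IsPGroup u X₂ := hB.pg.to_le hX₂B
  obtain ⟨H₂, hH₂, hNH₂⟩ :=
    exists_coatom_ge (MS_normalizer_ne_top hG hX₂1 (MS_isPGroup_ne_top hG hX₂p))
  have huH₂ : u ∈ sigma H₂ :=
    mem_sigma_of_normalizer_le hG hU (h18_of hG) hH₂ hB.elem hB.card (hNN.trans hNH₂)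
  have hCH₂ : centralizer (X₂ : Set G) ≤ H₂ := (Subgroup.centralizer_le_normalizer _).trans hNH₂
  have hu2 : u ≠ 2 := MS_prime_ne_two hG (H := B) hB.dvd_card
  -- (l)
  have huM : u ∈ sigma Mstar := by
    by_contra hσ
    obtain ⟨y, hy, hy1⟩ := exists_ne_one_of_card_prime hkp rfl
    obtain ⟨x, hx, hx1⟩ := exists_ne_one_of_card_prime hu.out hX₂c
    have hxo : orderOf x = u := orderOf_eq_of_card_prime hu.out hX₂c hx hx1
    have hxy : x ∈ Mstar ⊓ centralizer ({y} : Set G) := by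
      refine mem_inf.2 ⟨hX₂M hx, ?_⟩
      rw [mem_centralizer_singleton_iff]
      exact (mem_centralizer_iff.1 (hX₂K hx) y hy).symm
    have hprimes : ∀ p : ℕ, p.Prime → p ∣ orderOf x → p ∉ sigma Mstar := by
      intro p hp hd
      rw [hxo] at hd
      rwa [(Nat.prime_dvd_prime_iff_eq hp hu.out).1 hd]
    rcases Cfsg.Agent.S1432.result hG Mstar hMstar y (hKσ hy) hy1 x hxy hx1 hprimes with
      ⟨hκ, -⟩ | ⟨-, -, -, huniq⟩
    · have huκ : u ∈ kappa Mstar := hκ u hu.out (hxo ▸ dvd_rfl)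
      have hdK : u ∣ Nat.card (Kst M K) := by
        have h1 := Helper23.card_mul_relIndex hKstH.1
        have h2 : u ∣ Nat.card (Kst M K) * (Kst M K).relIndex Mstar := h1 ▸ huκ.2.1
        exact ((Nat.Prime.dvd_mul hu.out).1 h2).resolve_right (hKstH.2.2 u hu.out huκ)
      obtain ⟨x₀, hx₀⟩ := exists_prime_orderOf_dvd_card' (G := Kst M K) u hdK
      have hXs : zpowers (x₀ : G) ≤ Kst M K := zpowers_le.2 x₀.2
      have hXsc : Nat.card (zpowers (x₀ : G)) = u := by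
        rw [Nat.card_zpowers, Subgroup.orderOf_coe, hx₀]
      obtain ⟨m, hm, hmX⟩ := Helper20.BG14.conj_of_rank_one hu2 (Helper20.BG14.kappa_rank_one huκ)
        hX₂M (hXs.trans hKstH.1) hX₂c hXsc
      obtain ⟨-, huq⟩ := cent_uniq hG hM hKU.hall hK1 hXs (hXsc ▸ hu.out)
      have h1 : centralizer ((zpowers (x₀ : G) : Subgroup G) : Set G) ≤ cj m⁻¹ H₂ := by
        have h2 := hCH₂
        rw [← hmX, centralizer_map_conj] at h2
        have h3 := cj_mono m⁻¹ h2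
        rwa [cj_inv_cj] at h3
      have h2 : cj m⁻¹ H₂ = M := huq _ (isCoatom_cj hH₂ _) h1
      have huσ : u ∈ sigma M := sc_primes M hu.out (hdK.trans (card_dvd_of_le inf_le_left))
      have hBH₂ : B ≤ H₂ := le_normalizer.trans (hNN.trans hNH₂)
      have hB' : cj m⁻¹ B ≤ sigmaCore M := by
        refine le_sc hG hU hM huσ (h2 ▸ cj_mono m⁻¹ hBH₂) ?_
        exact hB.pg.map _
      have hw' : m⁻¹ * w * m ∈ fittingOf M := by
        apply hscF
        apply hB'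
        rw [mem_map_conj]
        have h9 : (m⁻¹)⁻¹ * (m⁻¹ * w * m) * m⁻¹ = w := by group
        rw [h9]
        exact hwB
      have hw'1 : m⁻¹ * w * m ≠ 1 := by
        intro h
        apply hw1
        calc w = m * (m⁻¹ * w * m) * m⁻¹ := by group
          _ = 1 := by rw [h]; group
      have h3 := Helper20.BG14.cent_le_of_TI hG hM (Helper20.BG14.fittingOf_le M)
        (Helper20.BG14.le_normalizer_fittingOf M) hTI hw' hw'1
      have h4 : centralizer ({w} : Set G) ≤ H₂ := by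
        have h5 : w = m * (m⁻¹ * w * m) * m⁻¹ := by group
        rw [h5, centralizer_singleton_conj]
        have h6 := cj_mono m h3
        rwa [← h2, cj_cj_inv] at h6
      have h5 : H ≤ H₂ := le_of_compl_le hE (hEN.trans (hNN.trans hNH₂)) (hwc.trans h4)
      have h6 : H₂ = H := (hH.le_iff_eq hH₂.1).1 h5
      exact hB.tau.2.1 (h6 ▸ huH₂)
    · have h1 : centralizer ({x} : Set G) ≤ H₂ := by
        rw [← centralizer_eq_of_card_prime hu.out hX₂c hx hx1]
        exact hCH₂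
      exact hσ ((huniq H₂ hH₂ h1) ▸ huH₂)
  -- (m)
  have hH₂M : H₂ = Mstar := eq_of_sigma_of_centralizer_le hG hMstar hH₂ huM huH₂ hX₂p hX₂1 hX₂M
    (le_normalizer.trans hNH₂) hCH₂
  -- (n)
  have hEM : E ≤ Mstar := hH₂M ▸ (hEN.trans (hNN.trans hNH₂))
  have hnid : ¬ IsIdealPrime u G :=
    (Cfsg.Agent.S1408.result hG H hH u hB.tau.2.1 hB.tau.2.2.1 hB.tau.2.2.2).1
  have hβ : u ∉ beta Mstar := fun h => hnid h.2
  have hc := (h14_of hG Mstar hMstar u hu.out huM.2.1 hβ).2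
  have hnd : ¬ u ∣ Nat.card K := fun h => hu' ((Nat.prime_dvd_prime_iff_eq hu.out hkp).1 h)
  have h1 := comm_eq_bot_of_normalPComplement (sc_norm Mstar) hc (hTE.trans hEM) hT hKσ hnd hKT
  have h2 : T ≤ centralizer (K : Set G) := by
    rw [Subgroup.commutator_eq_bot_iff_le_centralizer] at h1
    exact h1
  exact hT1 (by rw [← hC]; exact (inf_eq_left.2 h2).symm)

end Cfsg.Agent.Lib.Helper52.BG15
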