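import Cfsg.Agent.Lib.Helper52.FPF
import Mathlib.GroupTheory.QuotientGroup.Basic

/-!
The action of a subgroup `A` on a section `K / N` of the ambient group, where `A` normalises `K` and `N`.
-/

set_option autoImplicit false

namespace Cfsg.Agent.Lib.Helper52

open Subgroup

section
variable {G : Type*} [Group G] {A K N : Subgroup G}

/-- Conjugation by an element normalising `K`, as an endomorphism of `K`. -/
def conjOn (K : Subgroup G) (a : G) (ha : a ∈ normalizer (K : Set G)) : K →* K where
  toFun k := ⟨a * k * a⁻¹, (mem_normalizer_iff.1 ha k).1 k.2⟩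
  map_one' := by ext; simp
  map_mul' x y := by ext; simp

@[simp] theorem conjOn_coe (a : G) (ha : a ∈ normalizer (K : Set G)) (k : K) :
    ((conjOn K a ha k : K) : G) = a * k * a⁻¹ := rfl

theorem conjOn_le_comap (a : G) (ha : a ∈ normalizer (K : Set G)) (haN : a ∈ normalizer (N : Set G)) :
    N.subgroupOf K ≤ (N.subgroupOf K).comap (conjOn K a ha) := by
  intro k hk
  rw [mem_comap, mem_subgroupOf, conjOn_coe]
  exact (mem_normalizer_iff.1 haN k).1 hk

/-- The action of `A` on `K / N`. -/
@[instance_reducible]
def quotAction (hAK : A ≤ normalizer (K : Set G)) (hAN : A ≤ normalizer (N : Set G))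
    [(N.subgroupOf K).Normal] : MulDistribMulAction A (K ⧸ N.subgroupOf K) where
  smul a q := QuotientGroup.map _ _ (conjOn K a (hAK a.2)) (conjOn_le_comap (a : G) (hAK a.2) (hAN a.2)) q
  one_smul q := by
    induction q using QuotientGroup.induction_on with
    | H k =>
      change QuotientGroup.map _ _ _ _ _ = _
      rw [QuotientGroup.map_mk]
      congr 1
      ext
      simp
  mul_smul a b q := by
    induction q using QuotientGroup.induction_on with
    | H k =>
      change QuotientGroup.map _ _ _ _ _ = QuotientGroup.map _ _ _ _ (QuotientGroup.map _ _ _ _ _)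
      rw [QuotientGroup.map_mk, QuotientGroup.map_mk, QuotientGroup.map_mk]
      congr 1
      ext
      simp [mul_assoc]
  smul_mul a x y := map_mul _ x y
  smul_one a := map_one _

theorem quotAction_smul_mk (hAK : A ≤ normalizer (K : Set G)) (hAN : A ≤ normalizer (N : Set G))
    [(N.subgroupOf K).Normal] (a : A) (k : K) :
    letI := quotAction hAK hAN
    a • (QuotientGroup.mk k : K ⧸ N.subgroupOf K) = QuotientGroup.mk (conjOn K a (hAK a.2) k) := rfl

end

/-- Variant of `subsingleton_of_fpf` for a group with a proof of commutativity. -/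
theorem subsingleton_of_fpf' {A V : Type*} [Group A] [Group V] [MulDistribMulAction A V] [Finite V]
    (hcomm : ∀ x y : V, x * y = y * x)
    (hfpf : ∀ a : A, a ≠ 1 → ∀ v : V, a • v = v → v = 1)
    (c d : A) (hcd : Commute c d) (r : ℕ) (hr : r.Prime) (hc : c ^ r = 1)
    (hd : orderOf d = r) (hcd' : c ∉ zpowers d) : Subsingleton V := by
  let _ : CommGroup V := { ‹Group V› with mul_comm := hcomm }
  exact subsingleton_of_fpf hfpf c d hcd r hr hc hd hcd'

end Cfsg.Agent.Lib.Helper52
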