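import Cfsg.Agent.Lib.Helper52.SZ
import Mathlib.GroupTheory.Sylow

/-!
Internal (ambient) forms of the Schur–Zassenhaus theorem: `A, F ≤ G`, `A` normalising `F`, coprime orders.
-/

set_option autoImplicit false

namespace Cfsg.Agent.Lib.Helper52

open Subgroup

/-- Inside `A ⊔ F` the normalised subgroup `F` is complemented by `A`. -/
theorem internal_complement {G : Type*} [Group G] [Finite G] (A F : Subgroup G)
    (hAF : A ≤ normalizer (F : Set G)) (hcop : (Nat.card A).Coprime (Nat.card F)) :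
    IsComplement' (F.subgroupOf (A ⊔ F)) (A.subgroupOf (A ⊔ F)) := by
  have hn : (F.subgroupOf (A ⊔ F)).Normal := normal_subgroupOf_sup_of_le_normalizer hAF
  apply isComplement'_of_disjoint_and_mul_eq_univ
  · apply disjoint_of_coprime_natCard
    rw [card_subgroupOf_of_le le_sup_right, card_subgroupOf_of_le le_sup_left]
    exact hcop.symm
  · rw [← normal_mul, ← subgroupOf_sup le_sup_right le_sup_left, sup_comm, subgroupOf_self]
    rfl

/-- Internal Schur–Zassenhaus conjugacy: a subgroup `B` of `A F` of the same order as `A` is conjugate into `A`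
by an element of `F`. -/
theorem internal_conj {G : Type*} [Group G] [Finite G] (A F B : Subgroup G)
    (hAF : A ≤ normalizer (F : Set G)) (hcop : (Nat.card A).Coprime (Nat.card F))
    (hsolv : Group.IsSolvable A ∨ Group.IsSolvable F) (hB : B ≤ A ⊔ F) (hcard : Nat.card B = Nat.card A) :
    ∃ f ∈ F, ∀ b ∈ B, f * b * f⁻¹ ∈ A := by
  have hn : (F.subgroupOf (A ⊔ F)).Normal := normal_subgroupOf_sup_of_le_normalizer hAF
  have hc := internal_complement A F hAF hcop
  have hidx : (F.subgroupOf (A ⊔ F)).index = Nat.card A := by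
    rw [hc.symm.index_eq_card, card_subgroupOf_of_le le_sup_left]
  have hs : Group.IsSolvable (F.subgroupOf (A ⊔ F)) ∨ Group.IsSolvable ((A ⊔ F : Subgroup G) ⧸ F.subgroupOf (A ⊔ F)) := by
    rcases hsolv with h | h
    · right
      exact Group.isSolvable_of_isSolvable_injective
        (f := ((subgroupOfEquivOfLe (le_sup_left : A ≤ A ⊔ F)).toMonoidHom).comp hc.symm.QuotientMulEquiv.toMonoidHom)
        ((subgroupOfEquivOfLe (le_sup_left : A ≤ A ⊔ F)).injective.comp hc.symm.QuotientMulEquiv.injective)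
    · left
      exact Group.isSolvable_of_isSolvable_injective
        (f := (subgroupOfEquivOfLe (le_sup_right : F ≤ A ⊔ F)).toMonoidHom)
        (subgroupOfEquivOfLe (le_sup_right : F ≤ A ⊔ F)).injective
  obtain ⟨l, hl⟩ := conj_card (F.subgroupOf (A ⊔ F))
    (by rw [hidx, card_subgroupOf_of_le le_sup_right]; exact hcop.symm) hs
    (B.subgroupOf (A ⊔ F)) (A.subgroupOf (A ⊔ F))
    (by rw [card_subgroupOf_of_le hB, hidx, hcard]) (by rw [card_subgroupOf_of_le le_sup_left, hidx])
  obtain ⟨⟨a, f⟩, haf⟩ := hc.symm.2 l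
  have haf' : (a : (A ⊔ F : Subgroup G)) * f = l := haf
  refine ⟨((f : (A ⊔ F : Subgroup G)) : G), mem_subgroupOf.1 f.2, fun b hb => ?_⟩
  have h1 := hl ⟨b, hB hb⟩ (mem_subgroupOf.2 hb)
  rw [mem_subgroupOf, ← haf'] at h1
  have ha : ((a : (A ⊔ F : Subgroup G)) : G) ∈ A := mem_subgroupOf.1 a.2
  have h2 : ((f : (A ⊔ F : Subgroup G)) : G) * b * ((f : (A ⊔ F : Subgroup G)) : G)⁻¹ =
      ((a : (A ⊔ F : Subgroup G)) : G)⁻¹ *
        (((a : (A ⊔ F : Subgroup G)) * f * ⟨b, hB hb⟩ * ((a : (A ⊔ F : Subgroup G)) * f)⁻¹ : (A ⊔ F : Subgroup G)) : G) *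
        ((a : (A ⊔ F : Subgroup G)) : G) := by
    simp only [Subgroup.coe_mul, Subgroup.coe_inv]
    group
  rw [h2]
  exact A.mul_mem (A.mul_mem (A.inv_mem ha) h1) ha

end Cfsg.Agent.Lib.Helper52
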