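import Cfsg.Agent.Lib.Helper24.BG36w
import Cfsg.Agent.Lib.Helper52.Commutators
import Cfsg.Agent.Lib.Helper52.QuotAction
import Cfsg.Agent.S0055
import Cfsg.Agent.S0056

/-!
# Frobenius groups `K ⋊ R` with `|R|` prime acting on abelian groups with cyclic `C_V(R)`

Everything is proved from the fixed point formula `FrobFormula X` (the statement of S1545).
-/

set_option autoImplicit false
set_option linter.unusedSectionVars false
set_option linter.style.haveILetI false

namespace Cfsg.Agent.Lib.Helper52.FrobCyc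

open Subgroup
open scoped commutatorElement
open Cfsg.Agent.Lib.Helper24 (FrobFormula)

/-- endomorphisms of a cyclic module over a commutative ring commute -/
theorem comm_of_cyclic_module {V ι : Type*} [CommGroup V] (s : ι → V →* V)
    (hS : ∀ i j x, s i (s j x) = s j (s i x)) (w : V)
    (hw : closure (Set.range fun i => s i w) = ⊤) (ψ ψ' : V →* V)
    (h : ∀ i x, ψ (s i x) = s i (ψ x)) (h' : ∀ i x, ψ' (s i x) = s i (ψ' x)) (x : V) :
    ψ (ψ' x) = ψ' (ψ x) := by
  -- every element is `α w` with `α` in the centre of the commutant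
  have key : ∀ u : V, ∃ α : V →* V, (∀ i x, α (s i x) = s i (α x)) ∧
      (∀ φ : V →* V, (∀ i x, φ (s i x) = s i (φ x)) → ∀ x, α (φ x) = φ (α x)) ∧ α w = u := by
    intro u
    have hu : u ∈ closure (Set.range fun i => s i w) := by rw [hw]; exact mem_top u
    induction hu using closure_induction with
    | mem u hu =>
      obtain ⟨i, rfl⟩ := hu
      exact ⟨s i, fun j x => hS i j x, fun φ hφ x => (hφ i x).symm, rfl⟩
    | one => exact ⟨1, fun i x => by simp, fun φ _ x => by simp, by simp⟩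
    | mul a b _ _ iha ihb =>
      obtain ⟨α, h1, h2, h3⟩ := iha
      obtain ⟨β, k1, k2, k3⟩ := ihb
      refine ⟨α * β, fun i x => ?_, fun φ hφ x => ?_, ?_⟩
      · rw [MonoidHom.mul_apply, MonoidHom.mul_apply, h1, k1, map_mul]
      · rw [MonoidHom.mul_apply, MonoidHom.mul_apply, h2 φ hφ, k2 φ hφ, map_mul]
      · rw [MonoidHom.mul_apply, h3, k3]
    | inv a _ iha =>
      obtain ⟨α, h1, h2, h3⟩ := iha
      refine ⟨α⁻¹, fun i x => ?_, fun φ hφ x => ?_, ?_⟩
      · rw [MonoidHom.inv_apply, MonoidHom.inv_apply, h1, map_inv]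
      · rw [MonoidHom.inv_apply, MonoidHom.inv_apply, h2 φ hφ, map_inv]
      · rw [MonoidHom.inv_apply, h3]
  have hww : ψ (ψ' w) = ψ' (ψ w) := by
    obtain ⟨α, a1, a2, a3⟩ := key (ψ w)
    obtain ⟨β, b1, b2, b3⟩ := key (ψ' w)
    rw [← b3, ← b2 ψ h, ← a3, ← a2 ψ' h', ← b3, a2 β b1]
  obtain ⟨γ, c1, c2, c3⟩ := key x
  rw [← c3, ← c2 ψ' h', ← c2 ψ h, hww, c2 ψ' h', c2 ψ h]

variable {X : Type*} [Group X] [Finite X]

theorem le_normalizer_of_conj_mem {B W : Subgroup X} (h : ∀ b ∈ B, ∀ x ∈ W, b * x * b⁻¹ ∈ W) :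
    B ≤ normalizer (W : Set X) := by
  intro b hb
  rw [mem_normalizer_iff]
  intro x
  refine ⟨h b hb x, fun hx => ?_⟩
  have := h b⁻¹ (inv_mem hb) _ hx
  simpa [mul_assoc] using this

theorem conj_mem_closure {S : Set X} {b : X} (h : ∀ x ∈ S, b * x * b⁻¹ ∈ closure S) :
    ∀ x ∈ closure S, b * x * b⁻¹ ∈ closure S := by
  have h1 : closure S ≤ (closure S).comap (MulAut.conj b).toMonoidHom := by
    rw [closure_le]
    intro x hx
    exact h x hx
  intro x hx
  exact h1 hx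

/-- in a nilpotent group `⁅B, K⁆ = B` forces `B = 1` -/
theorem eq_bot_of_commutator_eq {K B : Subgroup X} (hK : Group.IsNilpotent K) (hBK : B ≤ K)
    (h : ⁅B, K⁆ = B) : B = ⊥ := by
  obtain ⟨n, hn⟩ := (isNilpotent_iff_lowerCentralSeries _).1 hK
  have key : ∀ m : ℕ, B ≤ K.lowerCentralSeries m := by
    intro m
    induction m with
    | zero => exact hBK
    | succ m ih =>
      rw [Subgroup.lowerCentralSeries_succ]
      calc B = ⁅B, K⁆ := h.symm
        _ ≤ _ := commutator_mono ih le_rfl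
  have := key n
  rwa [hn, le_bot_iff] at this

/-- the fixed point formula when `C_H(U) = 1` -/
theorem tf (hF : FrobFormula X) {U E H : Subgroup X} (hU1 : U ≠ ⊥) (hE1 : E ≠ ⊥)
    (hEU : E ≤ normalizer (U : Set X))
    (hfpf : ∀ e ∈ E, e ≠ 1 → ∀ u ∈ U, e * u = u * e → u = 1)
    (hUH : U ≤ normalizer (H : Set X)) (hEH : E ≤ normalizer (H : Set X))
    (hsolv : Group.IsSolvable H) (hcop : (Nat.card H).Coprime (Nat.card ↥(U ⊔ E)))
    (hC : H ⊓ centralizer (U : Set X) = ⊥) :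
    Nat.card H = Nat.card ↥(H ⊓ centralizer (E : Set X)) ^ Nat.card E := by
  have hUE : U ⊓ E = ⊥ := by
    rw [eq_bot_iff]
    intro x hx
    rw [mem_bot]
    by_contra hx1
    exact hx1 (hfpf x hx.2 hx1 x hx.1 rfl)
  have h1 := hF U E H hU1 hE1 hUE
    (fun e he u hu => (mem_normalizer_iff.1 (hEU he) u).1 hu) hfpf
    (fun x hx h hh => (mem_normalizer_iff.1 ((sup_le hUH hEH) hx) h).1 hh)
    (Cfsg.Agent.Lib.Helper24.inf_eq_bot_of_coprime' hcop) hsolv hcop
  have h2 : H ⊓ centralizer ((U ⊔ E : Subgroup X) : Set X) = ⊥ := by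
    rw [eq_bot_iff, ← hC]
    exact inf_le_inf_left _ (centralizer_le (by exact_mod_cast (le_sup_left : U ≤ U ⊔ E)))
  rw [h2, hC, card_bot, one_pow, one_mul, mul_one] at h1
  exact h1

theorem commutator_le_of_normalizes {V K : Subgroup X} (hKV : K ≤ normalizer (V : Set X)) :
    ⁅V, K⁆ ≤ V := by
  rw [commutator_le]
  intro v hv k hk
  rw [commutatorElement_def, mul_assoc, mul_assoc]
  refine mul_mem hv ?_
  rw [← mul_assoc]
  exact (mem_normalizer_iff.1 (hKV hk) _).1 (inv_mem hv)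

theorem le_normalizer_inf_centralizer {A V B : Subgroup X} (hAV : A ≤ normalizer (V : Set X))
    (hAB : A ≤ normalizer (B : Set X)) :
    A ≤ normalizer ((V ⊓ centralizer (B : Set X) : Subgroup X) : Set X) := by
  apply le_normalizer_of_conj_mem
  intro a ha x hx
  refine mem_inf.2 ⟨(mem_normalizer_iff.1 (hAV ha) _).1 hx.1, ?_⟩
  rw [mem_centralizer_iff]
  intro b hb
  have h1 : a⁻¹ * b * a ∈ B := by
    have := (mem_normalizer_iff.1 (hAB (inv_mem ha)) b).1 hb
    simpa using this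
  have h2 := mem_centralizer_iff.1 hx.2 _ h1
  calc b * (a * x * a⁻¹) = a * ((a⁻¹ * b * a) * x) * a⁻¹ := by group
    _ = a * (x * (a⁻¹ * b * a)) * a⁻¹ := by rw [h2]
    _ = a * x * a⁻¹ * b := by group

/-- **Core**: `K ⋊ R` Frobenius with `K` nilpotent and `|R| = p` prime, acting coprimely on the
abelian group `V` with `|C_V(R)|` dividing a prime. Then `K'` centralises `V`. -/
theorem core1 (hF : FrobFormula X) (K R V : Subgroup X) {p ℓ : ℕ} (hp : p.Prime)
    (hR : Nat.card R = p) (hRK : R ≤ normalizer (K : Set X))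
    (hfpf : ∀ r ∈ R, r ≠ 1 → ∀ k ∈ K, r * k = k * r → k = 1)
    (hKnil : Group.IsNilpotent K) (hVc : IsMulCommutative V)
    (hKV : K ≤ normalizer (V : Set X)) (hRV : R ≤ normalizer (V : Set X))
    (hcop : (Nat.card V).Coprime (Nat.card ↥(K ⊔ R))) (hℓ : ℓ.Prime)
    (hCV : Nat.card ↥(V ⊓ centralizer (R : Set X)) ∣ ℓ) :
    ⁅K, K⁆ ≤ centralizer (V : Set X) := by
  have hR1 : R ≠ ⊥ := by
    intro h
    rw [h, card_bot] at hR
    exact hp.one_lt.ne hR
  set V1 : Subgroup X := ⁅V, K⁆ with hV1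
  have hV1V : V1 ≤ V := commutator_le_of_normalizes hKV
  have hcopK : (Nat.card K).Coprime (Nat.card V) :=
    (hcop.coprime_dvd_right (card_dvd_of_le le_sup_left)).symm
  obtain ⟨hd1, hd2⟩ := Cfsg.Agent.S0055.result K V hKV hcopK
  -- reduction to `V1`
  suffices hmain : ⁅K, K⁆ ≤ centralizer (V1 : Set X) by
    rw [le_centralizer_iff, ← hd2]
    refine sup_le ?_ (le_centralizer_iff.1 hmain)
    refine inf_le_right.trans (centralizer_le ?_)
    exact_mod_cast (commutator_le_of_normalizes (le_normalizer (H := K)))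
  have hKV1 : K ≤ normalizer (V1 : Set X) :=
    Cfsg.Agent.Lib.Helper52.le_normalizer_commutator hKV le_normalizer
  have hRV1 : R ≤ normalizer (V1 : Set X) :=
    Cfsg.Agent.Lib.Helper52.le_normalizer_commutator hRV hRK
  have hC1 : V1 ⊓ centralizer (K : Set X) = ⊥ := by
    rw [eq_bot_iff, ← hd1]
    intro x hx
    exact ⟨⟨hV1V hx.1, hx.2⟩, hx.1⟩
  have hV1c : ∀ a ∈ V1, ∀ b ∈ V1, a * b = b * a := fun a ha b hb =>
    congrArg Subtype.val (hVc.is_comm.comm ⟨a, hV1V ha⟩ ⟨b, hV1V hb⟩)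
  -- the dichotomy given by the fixed point formula
  have dich : ∀ U W : Subgroup X, U ≤ K → U ≠ ⊥ → R ≤ normalizer (U : Set X) → W ≤ V1 →
      U ≤ normalizer (W : Set X) → R ≤ normalizer (W : Set X) →
      W ⊓ centralizer (U : Set X) = ⊥ → Nat.card W = 1 ∨ Nat.card W = ℓ ^ p := by
    intro U W hUK hU1 hRU hWV hUW hRW hCW
    have h1 := tf hF hU1 hR1 hRU (fun r hr hr1 u hu => hfpf r hr hr1 u (hUK hu)) hUW hRW
      (Group.isSolvable_of_comm fun a b => Subtype.ext (hV1c a (hWV a.2) b (hWV b.2))) ((hcop.coprime_dvd_left (card_dvd_of_le (hWV.trans hV1V))).coprime_dvd_right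
        (card_dvd_of_le (sup_le_sup_right hUK R))) hCW
    have h2 : Nat.card ↥(W ⊓ centralizer (R : Set X)) ∣ ℓ :=
      (card_dvd_of_le (inf_le_inf_right _ (hWV.trans hV1V))).trans hCV
    rw [hR] at h1
    rcases (Nat.dvd_prime hℓ).1 h2 with h3 | h3
    · left; rw [h1, h3, one_pow]
    · right; rw [h1, h3]
  by_cases hK1 : K = ⊥
  · rw [hK1, commutator_bot_left]; exact bot_le
  by_cases hV1b : V1 = ⊥
  · rw [hV1b]
    intro x _
    rw [mem_centralizer_iff]
    intro y hy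
    rw [SetLike.mem_coe, mem_bot] at hy
    rw [hy, one_mul, mul_one]
  have hcardV1 : Nat.card V1 = ℓ ^ p := by
    rcases dich K V1 le_rfl hK1 hRK le_rfl hKV1 hRV1 hC1 with h | h
    · exact absurd (card_eq_one.1 h) hV1b
    · exact h
  have full : ∀ W : Subgroup X, W ≤ V1 → Nat.card W = ℓ ^ p → W = V1 := fun W hW hc =>
    eq_of_le_of_card_ge hW (by rw [hc, hcardV1])
  -- a fixed vector of `R`
  have hCR : V1 ⊓ centralizer (R : Set X) ≠ ⊥ := by
    intro h
    have h1 := tf hF hK1 hR1 hRK hfpf hKV1 hRV1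
      (Group.isSolvable_of_comm fun a b => Subtype.ext (hV1c a a.2 b b.2))
      (hcop.coprime_dvd_left (card_dvd_of_le hV1V)) hC1
    rw [h, card_bot, one_pow] at h1
    exact hV1b (card_eq_one.1 h1)
  obtain ⟨⟨w, hw⟩, hw1⟩ := Subgroup.ne_bot_iff_exists_ne_one.1 hCR
  have hw1 : w ≠ 1 := fun h => hw1 (Subtype.ext h)
  have hwV : w ∈ V1 := hw.1
  have hwR : ∀ r ∈ R, r * w * r⁻¹ = w := by
    intro r hr
    rw [mul_inv_eq_iff_eq_mul]
    exact mem_centralizer_iff.1 hw.2 r hr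
  -- choice of `B`
  have hKC : ¬ K ≤ centralizer (V1 : Set X) := by
    intro h
    apply hV1b
    rw [eq_bot_iff, ← hC1]
    exact le_inf le_rfl (le_centralizer_iff.1 h)
  obtain ⟨B, ⟨hBK, hKB, hRB, hBC⟩, hBmin⟩ :=
    (Set.toFinite {B : Subgroup X | B ≤ K ∧ K ≤ normalizer (B : Set X) ∧
      R ≤ normalizer (B : Set X) ∧ ¬ B ≤ centralizer (V1 : Set X)}).exists_minimal
      ⟨K, le_rfl, le_normalizer, hRK, hKC⟩
  have hB1 : B ≠ ⊥ := by
    rintro rfl
    exact hBC bot_le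
  have hBKC : ⁅B, K⁆ ≤ centralizer (V1 : Set X) := by
    by_contra hcon
    have h1 : ⁅B, K⁆ ≤ B := commutator_le_of_normalizes hKB
    have h2 : B ≤ ⁅B, K⁆ := hBmin ⟨h1.trans hBK,
      Cfsg.Agent.Lib.Helper52.le_normalizer_commutator hKB le_normalizer,
      Cfsg.Agent.Lib.Helper52.le_normalizer_commutator hRB hRK, hcon⟩ h1
    exact hB1 (eq_bot_of_commutator_eq hKnil hBK (le_antisymm h1 h2))
  have hBV1 : B ≤ normalizer (V1 : Set X) := hBK.trans hKV1
  -- `C_{V1}(B) = 1`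
  have hCB : V1 ⊓ centralizer (B : Set X) = ⊥ := by
    rcases dich K (V1 ⊓ centralizer (B : Set X)) le_rfl hK1 hRK inf_le_left
      (le_normalizer_inf_centralizer hKV1 hKB) (le_normalizer_inf_centralizer hRV1 hRB)
      (by rw [eq_bot_iff, ← hC1]; exact inf_le_inf_right _ inf_le_left) with h | h
    · exact card_eq_one.1 h
    · exfalso
      have h1 := full _ inf_le_left h
      exact hBC (le_centralizer_iff.1 (inf_eq_left.1 h1))
  -- the cyclic module generated by `w`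
  set SX : Set X := {x | ∃ b ∈ B, x = b * w * b⁻¹} with hSX
  have hSXV : SX ⊆ V1 := by
    rintro x ⟨b, hb, rfl⟩
    exact (mem_normalizer_iff.1 (hBV1 hb) _).1 hwV
  have hWV : closure SX ≤ V1 := (closure_le _).2 hSXV
  have hBW : B ≤ normalizer ((closure SX : Subgroup X) : Set X) := by
    apply le_normalizer_of_conj_mem
    intro b hb
    apply conj_mem_closure
    rintro x ⟨c, hc, rfl⟩
    exact subset_closure ⟨b * c, mul_mem hb hc, by group⟩
  have hRW : R ≤ normalizer ((closure SX : Subgroup X) : Set X) := by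
    apply le_normalizer_of_conj_mem
    intro r hr
    apply conj_mem_closure
    rintro x ⟨c, hc, rfl⟩
    refine subset_closure ⟨r * c * r⁻¹, (mem_normalizer_iff.1 (hRB hr) _).1 hc, ?_⟩
    nth_rewrite 2 [← hwR r hr]
    group
  have hwW : w ∈ closure SX := subset_closure ⟨1, one_mem _, by simp⟩
  have hW : closure SX = V1 := by
    rcases dich B (closure SX) hBK hB1 hRB hWV hBW hRW
      (by rw [eq_bot_iff, ← hCB]; exact inf_le_inf_right _ hWV) with h | h
    · exfalso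
      have h1 := card_eq_one.1 h
      rw [h1, mem_bot] at hwW
      exact hw1 hwW
    · exact full _ hWV h
  -- commutation of `K` and `B` on `V1`
  have hcomm : ∀ k ∈ K, ∀ b ∈ B, ∀ v ∈ V1, k * (b * v * b⁻¹) * k⁻¹ = b * (k * v * k⁻¹) * b⁻¹ := by
    intro k hk b hb v hv
    have h1 : ⁅b, k⁆ ∈ centralizer (V1 : Set X) := hBKC (commutator_mem_commutator hb hk)
    have h2 : k * (b * v * b⁻¹) * k⁻¹ ∈ V1 :=
      (mem_normalizer_iff.1 (hKV1 hk) _).1 ((mem_normalizer_iff.1 (hBV1 hb) _).1 hv)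
    have h3 := mem_centralizer_iff.1 h1 _ h2
    rw [commutatorElement_def] at h3
    calc k * (b * v * b⁻¹) * k⁻¹
        = (k * (b * v * b⁻¹) * k⁻¹ * (b * k * b⁻¹ * k⁻¹)) * (b * k * b⁻¹ * k⁻¹)⁻¹ := by group
      _ = (b * k * b⁻¹ * k⁻¹ * (k * (b * v * b⁻¹) * k⁻¹)) * (b * k * b⁻¹ * k⁻¹)⁻¹ := by rw [h3]
      _ = b * (k * v * k⁻¹) * b⁻¹ := by group
  letI : CommGroup V1 := { (inferInstance : Group V1) with
    mul_comm := fun a b => Subtype.ext (hV1c a a.2 b b.2) }
  let sB : B → V1 →* V1 := fun b => Cfsg.Agent.Lib.Helper52.conjOn V1 b (hBV1 b.2)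
  have htop : closure (Set.range fun b : B => sB b ⟨w, hwV⟩) = ⊤ := by
    have h1 : (closure (Set.range fun b : B => sB b ⟨w, hwV⟩)).map V1.subtype = V1 := by
      rw [MonoidHom.map_closure]
      refine Eq.trans ?_ hW
      congr 1
      ext x
      constructor
      · rintro ⟨y, ⟨b, rfl⟩, rfl⟩
        exact ⟨b, b.2, rfl⟩
      · rintro ⟨b, hb, rfl⟩
        exact ⟨_, ⟨⟨b, hb⟩, rfl⟩, rfl⟩
    rw [eq_top_iff]
    intro u _
    have h2 : (u : X) ∈ (closure (Set.range fun b : B => sB b ⟨w, hwV⟩)).map V1.subtype := by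
      rw [h1]; exact u.2
    obtain ⟨y, hy, hyu⟩ := h2
    have : y = u := Subtype.ext hyu
    rwa [← this]
  rw [commutator_le]
  intro k hk k' hk'
  have key := comm_of_cyclic_module sB
    (fun i j x => Subtype.ext (hcomm i (hBK i.2) j j.2 x x.2)) ⟨w, hwV⟩ htop
    (Cfsg.Agent.Lib.Helper52.conjOn V1 k (hKV1 hk))
    (Cfsg.Agent.Lib.Helper52.conjOn V1 k' (hKV1 hk'))
    (fun i x => Subtype.ext (hcomm k hk i i.2 x x.2))
    (fun i x => Subtype.ext (hcomm k' hk' i i.2 x x.2))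
  rw [mem_centralizer_iff]
  intro v hv
  have hv' : (k' * k)⁻¹ * v * (k' * k) ∈ V1 := by
    have := (mem_normalizer_iff.1 (hKV1 (inv_mem (mul_mem hk' hk))) v).1 hv
    simpa using this
  have h1 := congrArg Subtype.val (key ⟨_, hv'⟩)
  simp only [Cfsg.Agent.Lib.Helper52.conjOn_coe] at h1
  rw [commutatorElement_def]
  calc v * (k * k' * k⁻¹ * k'⁻¹)
      = k' * (k * ((k' * k)⁻¹ * v * (k' * k)) * k⁻¹) * k'⁻¹ * (k * k' * k⁻¹ * k'⁻¹) := by group
    _ = k * (k' * ((k' * k)⁻¹ * v * (k' * k)) * k'⁻¹) * k⁻¹ * (k * k' * k⁻¹ * k'⁻¹) := by rw [h1]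
    _ = k * k' * k⁻¹ * k'⁻¹ * v := by group

end Cfsg.Agent.Lib.Helper52.FrobCyc
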