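import Cfsg.Agent.Lib.Helper52.FrobCyc
import Cfsg.Agent.Lib.Helper66.FrobBasic

/-!
# S3770 from the fixed point formula S1545
-/

set_option autoImplicit false
set_option linter.unusedSectionVars false
set_option linter.style.haveILetI false

namespace Cfsg.Agent.Lib.Helper52.FrobCyc

open Subgroup
open Cfsg.Agent.Lib.Helper24 (FrobFormula)

theorem s3770_of_formula {X : Type*} [Group X] [Finite X] (hF : FrobFormula X)
    (G : Subgroup X) (V : Subgroup X) {ℓ : ℕ} (hℓ : ℓ.Prime)
    (hV : Cfsg.IsElementaryAbelian ℓ V) (hℓG : ¬ ℓ ∣ Nat.card G)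
    (hGV : G ≤ Subgroup.normalizer (V : Set X)) (R : Subgroup ↥G)
    (hR : Cfsg.IsFrobeniusComplement R) (hRp : (Nat.card R).Prime)
    (hCV : Nat.card ↥(V ⊓ Subgroup.centralizer ((R.map G.subtype : Subgroup X) : Set X)) = ℓ) :
    ⁅Subgroup.closure (Subtype.val '' Cfsg.frobeniusKernel R),
      Subgroup.closure (Subtype.val '' Cfsg.frobeniusKernel R)⁆
      ≤ Subgroup.centralizer (V : Set X) := by
  obtain ⟨N, D⟩ := Cfsg.Agent.Lib.Helper66.exists_frobData R hR
  have hcl : Subgroup.closure (Subtype.val '' Cfsg.frobeniusKernel R) = N.map G.subtype := by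
    rw [← D.set_eq]
    have : (Subtype.val '' (N : Set G)) = ((N.map G.subtype : Subgroup X) : Set X) := by
      ext x
      simp
    rw [this, closure_eq]
  rw [hcl]
  haveI := D.normal
  have hcardR : Nat.card (R.map G.subtype : Subgroup X) = Nat.card R :=
    card_map_of_injective G.subtype_injective
  have hVp : IsPGroup ℓ V := fun a => ⟨1, by
    rw [pow_one]
    exact Subtype.ext (by simpa using hV.2 a a.2)⟩
  haveI : Fact ℓ.Prime := ⟨hℓ⟩
  obtain ⟨n, hn⟩ := IsPGroup.iff_card.1 hVp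
  refine core1 hF (N.map G.subtype) (R.map G.subtype) V hRp hcardR ?_ ?_ ?_ hV.1
    ((map_subtype_le N).trans hGV) ((map_subtype_le R).trans hGV) ?_ hℓ (by rw [hCV])
  · apply le_normalizer_of_conj_mem
    rintro _ ⟨r, -, rfl⟩ _ ⟨k, hk, rfl⟩
    exact ⟨r * k * r⁻¹, D.normal.conj_mem k hk r, by simp⟩
  · rintro _ ⟨r, hr, rfl⟩ hr1 _ ⟨k, hk, rfl⟩ hcomm
    have h1 : r ≠ 1 := by
      rintro rfl
      exact hr1 rfl
    have h2 : Commute k r := by
      apply Subtype.ext
      simpa using hcomm.symm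
    rw [D.fpf hr h1 hk h2]
    rfl
  · haveI := D.nilp
    exact Group.nilpotent_of_mulEquiv (N.equivMapOfInjective G.subtype G.subtype_injective)
  · rw [hn]
    apply Nat.Coprime.pow_left
    refine Nat.Coprime.coprime_dvd_right (card_dvd_of_le
      (sup_le (map_subtype_le N) (map_subtype_le R))) ?_
    exact (Nat.Prime.coprime_iff_not_dvd hℓ).2 hℓG

end Cfsg.Agent.Lib.Helper52.FrobCyc
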