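import Cfsg.Agent.Lib.Helper53.Zas.Basic

/-!
# Perfect groups satisfying `ZHyp`: basics (piece P1 of helper53's plan for S0690)
-/

set_option autoImplicit false
set_option linter.unusedSectionVars false
set_option linter.style.haveILetI false

namespace Cfsg.Agent.Lib.Helper52.ZasP1

open Subgroup
open Cfsg.Agent.Lib.Helper53.Zas

variable {G : Type*} [Group G] [Finite G]

/-- a cyclic normal subgroup of a perfect group is central -/
theorem central_of_normal_cyclic (hperf : commutator G = ⊤) (A : Subgroup G) [A.Normal]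
    (hA : IsCyclic A) : A ≤ center G := by
  let f : G →* (ZMod (Nat.card A))ˣ :=
    (IsCyclic.mulAutMulEquiv A).toMonoidHom.comp (MulAut.conjNormal (H := A))
  have h1 : commutator G ≤ f.ker := Abelianization.commutator_subset_ker f
  rw [hperf] at h1
  intro a ha
  rw [Subgroup.mem_center_iff]
  intro g
  have h2 : f g = 1 := h1 (Subgroup.mem_top g)
  have h3 : MulAut.conjNormal (H := A) g = 1 := by
    apply (IsCyclic.mulAutMulEquiv A).injective
    rw [map_one]
    exact h2
  have h4 := congrArg (fun φ : MulAut A => ((φ ⟨a, ha⟩ : A) : G)) h3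
  simp only [MulAut.conjNormal_apply, MulAut.one_apply] at h4
  rw [mul_inv_eq_iff_eq_mul] at h4
  exact h4

/-- the odd Sylow subgroups are cyclic -/
theorem sylow_odd_cyclic (h : ZHyp G) {p : ℕ} [Fact p.Prime] (hp2 : p ≠ 2) (P : Sylow p G) :
    IsCyclic P := by
  rcases Cfsg.Agent.Lib.Helper25.sylow_cyclic_or_quaternion_of_key h.key0 p P with h1 | ⟨h1, -⟩
  · exact h1
  · exact absurd h1 hp2

/-- a perfect group with `ZHyp` has no central element of odd prime order -/
theorem no_central_odd (h : ZHyp G) (hperf : commutator G = ⊤) {p : ℕ} (hp : p.Prime)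
    (hp2 : p ≠ 2) {c : G} (hc : orderOf c = p) (hcc : c ∈ center G) : False := by
  haveI : Fact p.Prime := ⟨hp⟩
  obtain ⟨P⟩ : Nonempty (Sylow p G) := inferInstance
  haveI hcyc : IsCyclic P := sylow_odd_cyclic h hp2 P
  letI : CommGroup (P : Subgroup G) := IsCyclic.commGroup
  let t : G →* (P : Subgroup G) := MonoidHom.transfer (MonoidHom.id (P : Subgroup G))
  have h1 : commutator G ≤ t.ker := Abelianization.commutator_subset_ker t
  rw [hperf] at h1
  have h2 : t c = 1 := h1 (Subgroup.mem_top c)
  have key : ∀ (k : ℕ) (g₀ : G), g₀⁻¹ * c ^ k * g₀ ∈ (P : Subgroup G) →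
      g₀⁻¹ * c ^ k * g₀ = c ^ k := by
    intro k g₀ _
    have h3 : c ^ k ∈ center G := pow_mem hcc k
    rw [Subgroup.mem_center_iff] at h3
    rw [mul_assoc, ← h3 g₀, inv_mul_cancel_left]
  have h3 := MonoidHom.transfer_eq_pow (MonoidHom.id (P : Subgroup G)) c key
  have h4 : c ^ (P : Subgroup G).index = 1 := by
    have h5 := congrArg (fun x : (P : Subgroup G) => (x : G)) (h3.symm.trans h2)
    simpa using h5
  have h5 := orderOf_dvd_of_pow_eq_one h4
  rw [hc] at h5
  exact P.not_dvd_index h5

/-- a subgroup without elements of order four is a Z-group -/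
theorem isZGroup_of_no_four (h : ZHyp G) (M : Subgroup G) (hM : ∀ m ∈ M, orderOf m ≠ 4) :
    IsZGroup M := by
  refine ⟨fun p hp P => ?_⟩
  haveI : Fact p.Prime := ⟨hp⟩
  rcases Cfsg.Agent.Lib.Helper25.sylow_cyclic_or_quaternion_of_key (h.key0_sub M) p P with
    h1 | ⟨-, n, ⟨e⟩⟩
  · exact h1
  · exfalso
    have h2 : orderOf (e.symm (QuaternionGroup.xa 0)) = 4 := by
      rw [MulEquiv.orderOf_eq]
      exact QuaternionGroup.orderOf_xa 0
    apply hM ((e.symm (QuaternionGroup.xa 0) : (P : Subgroup M)) : M) (SetLike.coe_mem _)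
    rw [Subgroup.orderOf_coe, Subgroup.orderOf_coe, h2]

theorem solvable_of_no_four (h : ZHyp G) (M : Subgroup G) (hM : ∀ m ∈ M, orderOf m ≠ 4) :
    Group.IsSolvable M := by
  haveI := isZGroup_of_no_four h M hM
  infer_instance

/-- a normal subgroup without elements of order four is cyclic -/
theorem cyclic_of_normal_no_four (h : ZHyp G) (hperf : commutator G = ⊤) (M : Subgroup G)
    [M.Normal] (hM : ∀ m ∈ M, orderOf m ≠ 4) : IsCyclic M := by
  haveI := isZGroup_of_no_four h M hM
  have h1 : IsCyclic (commutator M) := IsZGroup.isCyclic_commutator M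
  have h2 : IsCyclic ((commutator M).map M.subtype : Subgroup G) :=
    isCyclic_of_surjective _ (M.subtype.subgroupMap_surjective (commutator M))
  have h3 : (commutator M).map M.subtype = ⁅M, M⁆ := by
    rw [_root_.commutator_def, Subgroup.map_commutator, ← MonoidHom.range_eq_map, Subgroup.range_subtype]
  rw [h3] at h2
  have h4 : ⁅M, M⁆ ≤ center G := central_of_normal_cyclic hperf ⁅M, M⁆ h2
  have h5 : commutator M ≤ center M := by
    intro x hx
    have h6 : (x : G) ∈ ⁅M, M⁆ := by
      rw [← h3]
      exact Subgroup.mem_map_of_mem M.subtype hx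
    have h7 := h4 h6
    rw [Subgroup.mem_center_iff] at h7 ⊢
    intro y
    exact Subtype.ext (h7 y)
  haveI : Group.IsNilpotent M := by
    apply Subgroup.isNilpotent_of_ker_le_center (Abelianization.of (G := M))
    rw [Abelianization.ker_of]
    exact h5
  infer_instance

theorem le_of_normal_no_four (h : ZHyp G) (hperf : commutator G = ⊤) {z : G}
    (hz : orderOf z = 2) (M : Subgroup G) [M.Normal] (hM : ∀ m ∈ M, orderOf m ≠ 4) :
    M ≤ zpowers z := by
  have hcyc := cyclic_of_normal_no_four h hperf M hM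
  have hcen := central_of_normal_cyclic hperf M hcyc
  intro m hm
  have hpos : orderOf m ≠ 0 := (orderOf_pos m).ne'
  have h1 : ∀ {d : ℕ}, d.Prime → d ∣ orderOf m → d = 2 := by
    intro d hd hdvd
    by_contra hd2
    obtain ⟨e, he⟩ := hdvd
    have he0 : e ≠ 0 := by
      rintro rfl
      exact hpos (by rw [he, mul_zero])
    have h2 : orderOf (m ^ e) = d := by
      rw [orderOf_pow_of_dvd he0 ⟨d, by rw [he, mul_comm]⟩, he, Nat.mul_div_cancel _ (Nat.pos_of_ne_zero he0)]
    exact no_central_odd h hperf hd hd2 h2 (hcen (pow_mem hm e))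
  have h2 := Nat.eq_prime_pow_of_unique_prime_dvd hpos h1
  generalize (orderOf m).primeFactorsList.length = k at h2
  have hk1 : k < 2 := by
    by_contra hk2
    push Not at hk2
    obtain ⟨l, rfl⟩ := Nat.exists_eq_add_of_le hk2
    have h3 : orderOf (m ^ (2 ^ l)) = 4 := by
      rw [orderOf_pow_of_dvd (by positivity) ⟨4, by rw [h2, pow_add]; ring⟩, h2, pow_add,
        Nat.mul_div_cancel _ (by positivity)]
      norm_num
    exact hM _ (pow_mem hm _) h3
  interval_cases k
  · rw [pow_zero, orderOf_eq_one_iff] at h2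
    rw [h2]
    exact one_mem _
  · rw [pow_one] at h2
    rw [h.inv_unique m z h2 hz]
    exact mem_zpowers z

theorem eq_top_of_odd_index (h : ZHyp G) (hperf : commutator G = ⊤) (M : Subgroup G) [M.Normal]
    (hodd : ¬ 2 ∣ M.index) : M = ⊤ := by
  have hsurj := QuotientGroup.mk'_surjective M
  haveI hZ : IsZGroup (G ⧸ M) := by
    refine ⟨fun p hp P => ?_⟩
    haveI : Fact p.Prime := ⟨hp⟩
    by_cases hp2 : p = 2
    · subst hp2
      obtain ⟨k, hk⟩ := P.2.exists_card_eq
      have h1 : Nat.card (P : Subgroup (G ⧸ M)) ∣ M.index := P.card_subgroup_dvd_card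
      have hk0 : k = 0 := by
        by_contra hk0
        apply hodd
        refine dvd_trans ?_ h1
        rw [hk]
        exact dvd_pow_self 2 hk0
      rw [hk0, pow_zero] at hk
      exact isCyclic_of_card_dvd_prime (p := 2) (by rw [hk]; exact one_dvd _)
    · obtain ⟨Q, rfl⟩ := Sylow.mapSurjective_surjective hsurj p P
      haveI := sylow_odd_cyclic h hp2 Q
      exact isCyclic_of_surjective _ ((QuotientGroup.mk' M).subgroupMap_surjective Q)
  have hperf' : commutator (G ⧸ M) = ⊤ := by
    rw [_root_.commutator_def, ← Subgroup.map_top_of_surjective _ hsurj,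
      ← Subgroup.map_commutator, ← _root_.commutator_def, hperf]
  by_contra hne
  haveI : Nontrivial (G ⧸ M) := by
    rw [← Finite.one_lt_card_iff_nontrivial]
    have h1 : M.index ≠ 1 := fun h1 => hne (Subgroup.index_eq_one.1 h1)
    have h2 : M.index ≠ 0 := Subgroup.index_ne_zero_of_finite
    change 1 < M.index
    omega
  exact (IsZGroup.commutator_lt (G ⧸ M)).ne hperf'

end Cfsg.Agent.Lib.Helper52.ZasP1
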